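import Cfsg.Agent.Lib.Classical.UnitExtField.Rank

/-!
From a pairing of rank one, all transvections with a fixed isotropic centre.
-/

set_option autoImplicit false
set_option linter.unusedSectionVars false

namespace CfsgLib.UnitExt

open Module Matrix Cfsg
open CfsgLib.ClassicalAut (Unitary.Conj)
open CfsgLib.Classical.Herm
open CfsgLib.Classical.HermPair (IsE isE_smul isE_conj exists_E)
open CfsgLib.Classical.Herm.Rat (LM LM_comm)

variable {F : Type*} [Field F] [Finite F] {q n : ℕ} {K : Unitary.Conj F q}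
variable {L : Type*} [Field L] [Finite L] [Algebra F L] [Module L (Fin n → F)]
  [IsScalarTower F L (Fin n → F)]
variable {σ : L ≃+* L} {t : L →ₗ[F] F} {R : (L →ₗ[F] F) →ₗ[F] L}

local notation "H" => hermForm n F q
local notation "V" => (Fin n → F)
local notation "G" => SU n F q

/-- A Siegel element. -/
def Si (g : SU n F q) (a b : Fin n → F) (c : F) : Prop :=
  ∀ x, app g x = x + hermForm n F q x a • b - hermForm n F q x b • a + (c * hermForm n F q x a) • a

variable (hS : Setup K σ t R n)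
include hS

theorem si_conj {g e : G} {a b : V} {c : F} (he : Si e a b c) :
    Si (g * e * g⁻¹) (app g a) (app g b) c := fun x => by
  have e1 : H (app g⁻¹ x) a = H x (app g a) := by conv_rhs => rw [← app_inv' g x, h_app]
  have e2 : H (app g⁻¹ x) b = H x (app g b) := by conv_rhs => rw [← app_inv' g x, h_app]
  have hsub : ∀ y z, app g (y - z) = app g y - app g z := fun y z => (lin g).map_sub y z
  rw [app_mul, app_mul, he, app_add, hsub, app_add, app_smul, app_smul, app_smul, app_inv', e1, e2]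

/-- The fixed field of `σ` has `q ^ r` elements, so `σ` is a power map. -/
theorem exists_conj_sigma : ∃ J : Unitary.Conj L (q ^ finrank F L), ∀ x, J.bar x = σ x := by
  classical
  set r := finrank F L
  set L₀ := RingHom.eqLocusField (σ : L →+* L) (RingHom.id L) with hL₀
  have hmem : ∀ x, x ∈ L₀ ↔ σ x = x := fun x => Iff.rfl
  obtain ⟨y, hy⟩ := K.exists_moved
  set θ := algebraMap F L y
  have hθ : σ θ ≠ θ := fun e => hy ((algebraMap F L).injective (by rw [← hS.semi]; exact e))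
  let f : L₀ × L₀ → L := fun p => (p.1 : L) + (p.2 : L) * θ
  have hf : Function.Bijective f := by
    constructor
    · rintro ⟨a, b⟩ ⟨a', b'⟩ e
      have h1 : (a : L) + b * θ = a' + b' * θ := e
      have h2 := congrArg σ h1
      rw [map_add σ, map_add σ, map_mul σ, map_mul σ, (hmem _).1 a.2, (hmem _).1 b.2, (hmem _).1 a'.2,
        (hmem _).1 b'.2] at h2
      have h3 : ((b : L) - b') * (σ θ - θ) = 0 := by linear_combination h2 - h1
      have hb : (b : L) = b' := sub_eq_zero.1 ((mul_eq_zero.1 h3).resolve_right (sub_ne_zero.2 hθ))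
      rw [hb, add_left_inj] at h1
      exact Prod.ext (Subtype.ext h1) (Subtype.ext hb)
    · intro z
      have hne := sub_ne_zero.2 hθ
      refine ⟨(⟨(σ θ * z - θ * σ z) / (σ θ - θ), ?_⟩, ⟨(σ z - z) / (σ θ - θ), ?_⟩), ?_⟩
      · rw [hmem, map_div₀, map_sub σ, map_sub σ, map_mul σ, map_mul σ, hS.inv, hS.inv,
          ← neg_sub (σ θ * z), ← neg_sub (σ θ) θ, neg_div_neg_eq]
      · rw [hmem, map_div₀, map_sub σ, map_sub σ, hS.inv, hS.inv, ← neg_sub (σ z) z,
          ← neg_sub (σ θ) θ, neg_div_neg_eq]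
      · show (σ θ * z - θ * σ z) / (σ θ - θ) + (σ z - z) / (σ θ - θ) * θ = z
        field_simp
        ring
  have hcard : Nat.card L = Nat.card L₀ ^ 2 := by
    rw [← Nat.card_congr (Equiv.ofBijective f hf), Nat.card_prod, sq]
  have hs : Nat.card L₀ = q ^ r := by
    refine Nat.pow_left_injective two_ne_zero ?_
    show Nat.card L₀ ^ 2 = (q ^ r) ^ 2
    rw [← hcard, Module.natCard_eq_pow_finrank (K := F), K.card, ← pow_mul, ← pow_mul, mul_comm]
  haveI := Fintype.ofFinite L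
  obtain ⟨J⟩ := exists_conj_of_card (F := L) (q := q ^ r) (hF := by
    exact (Fintype.card_eq_nat_card).trans (hs ▸ hcard))
  refine ⟨J, fun x => ?_⟩
  obtain ⟨⟨a, b⟩, rfl⟩ := hf.2 x
  haveI := Fintype.ofFinite L₀
  have hfix : ∀ a : L₀, J.bar (a : L) = a := fun a => by
    rw [J.bar_apply, ← hs, Nat.card_eq_fintype_card]
    exact congrArg Subtype.val (FiniteField.pow_card a)
  have hJθ : J.bar θ = σ θ := by
    have hr : σ (θ + σ θ) = θ + σ θ ∧ σ (θ * σ θ) = θ * σ θ :=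
      ⟨by rw [map_add σ, hS.inv, add_comm], by rw [map_mul σ, hS.inv, mul_comm]⟩
    have h0 : (J.bar θ - θ) * (J.bar θ - σ θ) = 0 := by
      have h1 := hfix ⟨_, (hmem _).2 hr.1⟩
      have h2 := hfix ⟨_, (hmem _).2 hr.2⟩
      simp only [map_add, map_mul] at h1 h2
      linear_combination (J.bar θ) * h1 - h2
    refine sub_eq_zero.1 ((mul_eq_zero.1 h0).resolve_left fun e => ?_)
    -- the power map fixes nothing outside the fixed field
    have hall : ∀ x, J.bar x = x := fun x => by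
      obtain ⟨⟨a, b⟩, rfl⟩ := hf.2 x
      show J.bar ((a : L) + b * θ) = a + b * θ
      rw [map_add, map_mul, hfix, hfix, sub_eq_zero.1 e]
    obtain ⟨z, hz⟩ := J.exists_moved
    exact hz (hall z)
  show J.bar ((a : L) + b * θ) = σ ((a : L) + b * θ)
  rw [map_add, map_mul, map_add σ, map_mul σ, hfix, hfix, (hmem _).1 a.2, (hmem _).1 b.2, hJθ]


variable {M : Subgroup (SU n F q)} (hM : Over L M)
include hM

/-- The Siegel elements of a pairing of rank one. -/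
theorem exists_family {φ ψ : L →ₗ[F] V} (hφ : Im hS M φ) (hψ : Im hS M ψ)
    (h1 : finrank F (LinearMap.range (zeta hS φ ∘ₗ ψ)) = 1) :
    ∃ a₀ : V, a₀ ≠ 0 ∧ hh hS a₀ a₀ = 0 ∧ ∃ z₀ : L, z₀ ≠ 0 ∧ ∃ e : L, σ e = e ∧
      ∃ B : L →ₗ[F] V, ∃ p : L →ₗ[F] F, p e ≠ 0 ∧ (∀ η : L, σ η = η → K.bar (p η) = p η) ∧
      (∀ μ κ, H (B μ) (B κ) = 0) ∧
      (∀ μ, hh hS (B μ) a₀ = p μ • z₀) ∧
      ∀ u : L, σ u = u → t (u * (z₀ * σ z₀)) = 0 →
        (∀ μ, H ((u * z₀) • a₀) (B μ) = 0) ∧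
        ∀ θ : F, θ + K.bar θ = 0 → ∀ η : L, σ η = η →
          ∃ g ∈ M, Si g (θ • ((u * z₀) • a₀)) (θ • B η) (θ * p η) := by
  classical
  obtain ⟨g', hg', a₀, ha₀0, ha₀, hφe⟩ := hφ
  obtain ⟨⟨z₀, hz₀r⟩, hne, hall⟩ := finrank_eq_one_iff'.1 h1
  have hz₀ : z₀ ≠ 0 := fun e => hne (Subtype.ext e)
  have hP : ∀ μ, ∃ c : F, zeta hS φ (ψ μ) = c • z₀ := fun μ => by
    obtain ⟨c, hc⟩ := hall ⟨_, LinearMap.mem_range_self _ μ⟩
    exact ⟨c, (congrArg Subtype.val hc).symm⟩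
  obtain ⟨ℓ, hℓ, -⟩ := Submodule.exists_le_ker_of_notMem
    (show z₀ ∉ (⊥ : Submodule F L) by simpa using hz₀)
  set p₀ : L →ₗ[F] F := (ℓ z₀)⁻¹ • (ℓ ∘ₗ zeta hS φ ∘ₗ ψ) with hp₀
  have hp : ∀ μ, zeta hS φ (ψ μ) = p₀ μ • z₀ := fun μ => by
    obtain ⟨c, hc⟩ := hP μ
    rw [hp₀, LinearMap.smul_apply, LinearMap.comp_apply, LinearMap.comp_apply, hc, map_smul,
      smul_eq_mul, smul_eq_mul]
    congr 1
    field_simp
  let pbar : L →ₗ[F] F :=
    { toFun := fun μ => K.bar (p₀ (σ μ))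
      map_add' := fun x y => by rw [map_add, map_add, map_add]
      map_smul' := fun c x => by
        rw [sigma_smul hS, map_smul, smul_eq_mul, map_mul, K.bar_bar, RingHom.id_apply, smul_eq_mul] }
  set π := R pbar with hπ
  have hpν : ∀ ν, p₀ ν = t (ν * σ π) := fun ν => by
    have e := hS.rep pbar (σ ν)
    rw [← hπ] at e
    rw [← K.bar_bar (p₀ ν), show K.bar (p₀ ν) = pbar (σ ν) by
      show _ = K.bar (p₀ (σ (σ ν))); rw [hS.inv], ← e, ← hS.t_bar, map_mul σ, hS.inv]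
  have hπ0 : π ≠ 0 := fun e => by
    have : ∀ μ, zeta hS φ (ψ μ) = 0 := fun μ => by
      rw [hp, hpν, e, map_zero, mul_zero, map_zero, zero_smul]
    obtain ⟨μ, hμ⟩ := hz₀r
    exact hz₀ (by rw [← hμ]; exact this μ)
  let B : L →ₗ[F] V := (lin g'⁻¹).comp (ψ.comp (LinearMap.mulRight F π))
  have hB : ∀ μ, B μ = app g'⁻¹ (ψ (μ * π)) := fun μ => rfl
  let p : L →ₗ[F] F := t.comp (LinearMap.mulRight F (π * σ π))
  obtain ⟨e, he, hep⟩ := exists_real_ne hS (mul_ne_zero hπ0 ((map_ne_zero σ).2 hπ0))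
  refine ⟨a₀, ha₀0, ha₀, z₀, hz₀, e, he, B, p, hep, fun η hη => ?_, fun μ κ => ?_, fun μ => ?_,
    fun u hu hun => ?_⟩
  · show K.bar (t (η * (π * σ π))) = t (η * (π * σ π))
    rw [← hS.t_bar, map_mul σ, map_mul σ, hS.inv, hη, mul_comm (σ π)]
  · rw [hB, hB, h_app, Im.iso hS hψ]
  · rw [hB, show p μ = p₀ (μ * π) by rw [hpν]; show t (μ * (π * σ π)) = _; rw [mul_assoc], ← hp]
    exact (zeta_eq hS fun κ => by rw [hh_spec, hφe, ← h_app g', app_inv']).symm
  have hab : ∀ μ, H ((u * z₀) • a₀) (app g'⁻¹ (ψ μ)) = 0 := fun μ => by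
    rw [← h_app g', app_inv', ← hφe, h_swap K (ψ μ), ← hS.inv (u * z₀), ← zeta_spec hS φ (ψ μ), hp,
      map_mul σ, hu, mul_smul_comm, map_smul, mul_assoc, mul_comm (σ z₀), hun, smul_zero, map_zero]
  refine ⟨fun μ => by rw [hB]; exact hab _, fun θ hθ η hη => ?_⟩
  obtain ⟨ν, hν⟩ : ∃ ν, ν = algebraMap F L θ * u := ⟨_, rfl⟩
  have hνs : σ ν = -ν := by
    rw [hν, sigma_alg_mul hS, hu, eq_neg_of_add_eq_zero_right hθ, map_neg, neg_mul]
  have hηs : ∀ c : F, c + K.bar c = 0 → σ (algebraMap F L c * η) = -(algebraMap F L c * η) := fun c hc => by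
    rw [sigma_alg_mul hS, hη, eq_neg_of_add_eq_zero_right hc, map_neg, neg_mul]
  obtain ⟨g, hg, hgx⟩ := Im.root hS hM ⟨g', hg', a₀, ha₀0, ha₀, hφe⟩ hνs
  set ψ' := (lin g).comp ψ with hψ'd
  set a' := φ (ν * z₀) with ha'
  have hψ' : ∀ μ, ψ' μ = ψ μ + p₀ μ • a' := fun μ => by
    rw [hψ'd, LinearMap.comp_apply]
    show app g (ψ μ) = _
    rw [hgx, hp, mul_smul_comm, map_smul]
  have hψa : ∀ μ, H (ψ μ) a' = 0 := fun μ => by
    rw [ha', ← hS.inv (ν * z₀), ← zeta_spec hS φ (ψ μ), hp, map_mul σ, hνs, mul_smul_comm, map_smul,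
      hν, neg_mul, neg_mul, map_neg, mul_assoc, mul_assoc, mul_comm (σ z₀), t_alg_mul hS, hun,
      mul_zero, neg_zero, smul_zero]
  have hzeta : ∀ x, zeta hS ψ' x = zeta hS ψ x + H x a' • π := fun x => zeta_eq hS fun μ => by
    rw [mul_add, map_add, zeta_spec hS, mul_smul_comm, map_smul, hπ, hS.rep, hψ', h_add_right K,
      h_smul_right K, smul_eq_mul, mul_comm]
    rfl
  obtain ⟨g₁, hg₁, hg₁x⟩ := Im.root hS hM (hψ.comp hS hg) (hηs θ hθ)
  obtain ⟨g₂, hg₂, hg₂x⟩ := Im.root hS hM hψ (hηs (-θ) (by rw [map_neg, ← neg_add, hθ, neg_zero]))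
  have hψψ : ∀ μ κ, H (ψ μ) (ψ κ) = 0 := Im.iso hS hψ
  have hz : ∀ μ, zeta hS ψ (ψ μ) = 0 := fun μ => zeta_eq hS fun κ => by
    rw [mul_zero, map_zero, hψψ]
  refine ⟨g'⁻¹ * (g₁ * g₂) * g'⁻¹⁻¹, M.mul_mem (M.mul_mem (M.inv_mem hg') (M.mul_mem hg₁ hg₂))
    (M.inv_mem (M.inv_mem hg')), ?_⟩
  have key : Si (g₁ * g₂) a' (θ • ψ (η * π)) (θ * p η) := fun x => by
    have e1 : H x (θ • ψ (η * π)) = -(p₀ ((algebraMap F L θ * η) * zeta hS ψ x)) := by
      rw [hpν, show algebraMap F L θ * η * zeta hS ψ x * σ π = algebraMap F L θ * (η * σ π * zeta hS ψ x) by ring,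
        t_alg_mul hS, zeta_spec hS, map_mul σ, hS.inv, hη, h_smul_right K, eq_neg_of_add_eq_zero_right hθ,
        neg_mul]
    rw [app_mul, hg₂x]
    set v := ψ (algebraMap F L (-θ) * η * zeta hS ψ x) with hv
    have hv1 : zeta hS ψ' (x + v) = zeta hS ψ x + H x a' • π := by
      rw [hzeta, map_add, hv, hz, add_zero, h_add_left K, hψa, add_zero]
    rw [hg₁x, hv1, hψ', hv]
    rw [e1, show p η = p₀ (η * π) by rw [hpν]; show t (η * (π * σ π)) = _; rw [mul_assoc]]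
    simp only [mul_add, mul_smul_comm, map_add, map_smul, map_neg, neg_mul, smul_eq_mul]
    rw [show algebraMap F L θ * η * π = θ • (η * π) by rw [mul_assoc, Algebra.smul_def]]
    simp only [map_smul, smul_eq_mul]
    module
  have ea : app g'⁻¹ a' = θ • ((u * z₀) • a₀) := by
    rw [ha', hφe, app_inv, hν, mul_assoc, ← Algebra.smul_def, smul_assoc]
  have eb : app g'⁻¹ (θ • ψ (η * π)) = θ • B η := by rw [app_smul, hB]
  have := si_conj hS (g := g'⁻¹) key
  rwa [ea, eb] at this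

/-- All transvections with a centre, `q ≥ 3`. -/
theorem exists_centre_big {φ ψ : L →ₗ[F] V} (hφ : Im hS M φ) (hψ : Im hS M ψ)
    (h1 : finrank F (LinearMap.range (zeta hS φ ∘ₗ ψ)) = 1) (hq : 3 ≤ q) :
    ∃ a : V, a ≠ 0 ∧ hh hS a a = 0 ∧ a ∈ centres K M := by
  classical
  obtain ⟨a₀, ha₀0, ha₀, z₀, hz₀, e, he, B, p, hpe, hpb, hBB, -, hfam⟩ := exists_family hS hM hφ hψ h1
  have hn₀ : σ (z₀ * σ z₀) = z₀ * σ z₀ := by rw [map_mul σ, hS.inv, mul_comm]
  obtain ⟨u, hu0, hu, hun, -⟩ := exists_real_ker hS hn₀ hn₀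
  obtain ⟨d, hd, hd0, hd1⟩ : ∃ d : F, K.bar d = d ∧ d ≠ 0 ∧ d ≠ 1 := by
    cases nonempty_fintype F
    have h := card_fixed K
    rw [Nat.card_eq_fintype_card, Fintype.card_subtype] at h
    obtain ⟨d, hd, hne⟩ := Finset.exists_mem_ne
      (show 1 < (Finset.univ.filter fun x : F => K.bar x = x ∧ x ≠ 0).card by omega) 1
    rw [Finset.mem_filter] at hd
    exact ⟨d, hd.2.1, hd.2.2, hne⟩
  obtain ⟨θ, hθ0, hθ⟩ := exists_skew K
  set a₁ := (u * z₀) • a₀ with ha₁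
  clear_value a₁
  set a := θ • a₁ with ha
  have ha₁h : hh hS a₁ a₁ = 0 := by rw [ha₁, hh_smul_left, hh_smul_right, ha₀, mul_zero, mul_zero]
  have hah : hh hS a a = 0 := by
    rw [ha, ← algebraMap_smul L θ a₁, hh_smul_left, hh_smul_right, ha₁h, mul_zero, mul_zero]
  have haa : H a a = 0 := by rw [← t_hh hS, hah, map_zero]
  refine ⟨a, smul_ne_zero hθ0 (ha₁ ▸ smul_ne_zero (mul_ne_zero hu0 hz₀) ha₀0), hah, haa, fun g c hg => ?_⟩
  set s := c / (θ * p e * (d * d - d)) with hs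
  have hdd : d * d - d ≠ 0 := by
    rw [← mul_sub_one]; exact mul_ne_zero hd0 (sub_ne_zero.2 hd1)
  have hden : θ * p e * (d * d - d) ≠ 0 := mul_ne_zero (mul_ne_zero hθ0 hpe) hdd
  have hsb : K.bar s = s := by
    rw [hs, map_div₀, map_mul, map_mul, map_sub, map_mul, hd, hpb e he,
      eq_neg_of_add_eq_zero_right hθ, eq_neg_of_add_eq_zero_right hg.2.1, neg_mul, neg_mul,
      neg_div_neg_eq]
  have hreal : ∀ {c : F} {v : L}, K.bar c = c → σ v = v → σ (c • v) = c • v := fun {c v} hc hv => by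
    rw [sigma_smul hS, hc, hv]
  obtain ⟨hab, hfam₁⟩ := hfam u hu hun
  obtain ⟨-, hfam₂⟩ := hfam (d • u) (hreal hd hu) (by rw [smul_mul_assoc, map_smul, hun, smul_zero])
  obtain ⟨g₁, hg₁, hS₁⟩ := hfam₂ θ hθ (s • e) (hreal hsb he)
  obtain ⟨g₂, hg₂, hS₂⟩ := hfam₁ θ hθ ((-(d * s)) • e)
    (hreal (by rw [map_neg, map_mul, hd, hsb]) he)
  rw [show g = g₁ * g₂ from ext_app fun x => ?_]
  · exact M.mul_mem hg₁ hg₂
  rw [← ha₁] at hab hS₂
  have hBa : ∀ μ, H (B μ) a₁ = 0 := fun μ => h_eq_zero_symm K (hab μ)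
  have ha₁a : H a₁ a₁ = 0 := by rw [← t_hh hS, ha₁h, map_zero]
  have e0 : (d • u * z₀) • a₀ = d • a₁ := by rw [smul_mul_assoc, smul_assoc, ha₁]
  rw [hg.2.2, app_mul, hS₁, hS₂, e0]
  simp only [ha, h_add_left K, h_sub_left K, h_smul_left K, h_smul_right K, map_smul, smul_eq_mul, hBB,
    hBa, hab, ha₁a, hd, hsb, map_neg, map_mul, eq_neg_of_add_eq_zero_right hθ, mul_zero, zero_mul, sub_zero, add_zero, smul_add, smul_sub]
  have hc : c = s * (θ * p e) * (d * d - d) := by rw [hs]; field_simp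
  rw [hc]
  module

/-- All transvections with a centre, `q = 2`. -/
theorem exists_centre_two (h2r : n = 2 * finrank F L) {φ ψ : L →ₗ[F] V} (hφ : Im hS M φ) (hψ : Im hS M ψ)
    (h1 : finrank F (LinearMap.range (zeta hS φ ∘ₗ ψ)) = 1) (hq : q = 2) (hr : 5 ≤ finrank F L) :
    ∃ a : V, a ≠ 0 ∧ hh hS a a = 0 ∧ a ∈ centres K M := by
  classical
  obtain ⟨a₀, ha₀0, ha₀, z₀, hz₀, e, he, B, p, hpe, hpb, hBB, -, hfam⟩ := exists_family hS hM hφ hψ h1
  cases nonempty_fintype F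
  have hcard : Fintype.card F = 4 := by rw [← Nat.card_eq_fintype_card, K.card, hq]; norm_num
  have h2 : (2 : F) = 0 := by
    have h4 := FiniteField.cast_card_eq_zero F
    rw [hcard] at h4
    refine mul_self_eq_zero.1 ?_
    push_cast at h4
    linear_combination h4
  have hneg : ∀ x : F, -x = x := fun x => by linear_combination -x * h2
  have hfix : ∀ {c : F}, K.bar c = c → c ≠ 0 → c = 1 := fun {c} hc h0 => by
    have h := hq ▸ K.bar_pow_fixed hc
    exact mul_left_cancel₀ h0 (by rw [mul_one, ← sq]; exact h)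
  have hpe1 : p e = 1 := hfix (hpb e he) hpe
  have hskew1 : (1 : F) + K.bar 1 = 0 := by rw [map_one, one_add_one_eq_two, h2]
  have hnV : ∀ v : V, -v = v := fun v => funext fun i => hneg (v i)
  have hn₀ : σ (z₀ * σ z₀) = z₀ * σ z₀ := by rw [map_mul σ, hS.inv, mul_comm]
  have hline : ∀ μ κ : L, H (μ • a₀) (κ • a₀) = 0 := h_line_iso hS ha₀
  -- pairs on the line
  have pair0 : ∀ u₁ u₂ : L, σ u₁ = u₁ → σ u₂ = u₂ → t (u₁ * (z₀ * σ z₀)) = 0 →
      t (u₂ * (z₀ * σ z₀)) = 0 → LM M ((u₁ * z₀) • a₀) ((u₂ * z₀) • a₀) (1 : F) := by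
    intro u₁ u₂ r₁ r₂ t₁ t₂
    obtain ⟨o₁, f₁⟩ := hfam u₁ r₁ t₁
    obtain ⟨o₂, f₂⟩ := hfam u₂ r₂ t₂
    obtain ⟨o₃, f₃⟩ := hfam (u₁ + u₂) (by rw [map_add, r₁, r₂]) (by rw [add_mul, map_add, t₁, t₂, add_zero])
    obtain ⟨g₁, m₁, S₁⟩ := f₁ 1 hskew1 e he
    obtain ⟨g₂, m₂, S₂⟩ := f₂ 1 hskew1 e he
    obtain ⟨g₃, m₃, S₃⟩ := f₃ 1 hskew1 e he
    refine ⟨g₃ * g₁ * g₂, M.mul_mem (M.mul_mem m₃ m₁) m₂, fun x => ?_⟩
    have o₁' : ∀ μ, H (B μ) ((u₁ * z₀) • a₀) = 0 := fun μ => h_eq_zero_symm K (o₁ μ)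
    have o₂' : ∀ μ, H (B μ) ((u₂ * z₀) • a₀) = 0 := fun μ => h_eq_zero_symm K (o₂ μ)
    rw [one_smul, app_mul, app_mul, S₃, S₁, S₂]
    simp only [one_smul, hpe1, one_mul, add_mul u₁ u₂ z₀, add_smul (u₁ * z₀) (u₂ * z₀) a₀, h_add_left K,
      h_sub_left K, h_add_right K, h_smul_left K, hline, hBB, o₁, o₂, o₁', o₂', mul_zero, add_zero,
      sub_zero, zero_add]
    funext i
    simp only [Pi.add_apply, Pi.sub_apply, Pi.smul_apply, smul_eq_mul]
    linear_combination (H x ((u₁ * z₀) • a₀) * ((u₁ * z₀) • a₀) i + H x ((u₂ * z₀) • a₀) * ((u₂ * z₀) • a₀) i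
      + (H x ((u₁ * z₀) • a₀) + H x ((u₂ * z₀) • a₀)) * B e i + H x ((u₁ * z₀) • a₀) * ((u₂ * z₀) • a₀) i
      - H x (B e) * (((u₁ * z₀) • a₀) i + ((u₂ * z₀) • a₀) i)) * h2
  obtain ⟨d₀, hd₀, hd₀a, hd₀a'⟩ := exists_partner hS ha₀0 ha₀
  have h3 : ∀ x : F, x ≠ 0 → x ^ 3 = 1 := fun x hx => by
    have := FiniteField.pow_card_sub_one_eq_one x hx
    rwa [hcard] at this
  have lineA : ∀ k s : L, σ s = s → k ≠ 0 → LM M (k • a₀) ((s * k) • a₀) (1 : F) := by
    intro k s hs hk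
    obtain ⟨u, hu0, hu, t₁, t₂⟩ := exists_real_ker hS (n₁ := z₀ * σ z₀) (n₂ := s * (z₀ * σ z₀)) hn₀
      (by rw [map_mul σ, hs, hn₀])
    obtain ⟨g, hg, hE⟩ := pair0 u (s * u) hu (by rw [map_mul σ, hs, hu]) t₁
      (by rw [mul_comm s u, mul_assoc]; exact t₂)
    rw [one_smul] at hE
    set ν := u * z₀ with hν
    have hν0 : ν ≠ 0 := mul_ne_zero hu0 hz₀
    set r := finrank F L
    set w := (Algebra.norm F (k / ν)) ^ r with hw
    have hN0 : Algebra.norm F (k / ν) ≠ 0 := fun e => div_ne_zero hk hν0 (Algebra.norm_eq_zero_iff.1 e)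
    have hw0 : w ≠ 0 := pow_ne_zero _ hN0
    have hwr : w ^ r = Algebra.norm F (k / ν) := by
      have hr3 : r % 3 ≠ 0 := fun e => by
        rcases (Nat.prime_dvd_prime_iff_eq Nat.prime_three hS.prime).1 (Nat.dvd_of_mod_eq_zero e) with h
        omega
      have hrr : r * r % 3 = 1 := by
        rw [Nat.mul_mod]
        have : r % 3 = 1 ∨ r % 3 = 2 := by omega
        rcases this with h | h <;> rw [h]
      rw [hw, ← pow_mul, ← Nat.div_add_mod (r * r) 3, hrr, pow_add, pow_mul, h3 _ hN0, one_pow, one_mul,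
        pow_one]
    have hwn : w⁻¹ * K.bar w⁻¹ = 1 := hfix (by rw [map_mul, K.bar_bar, mul_comm])
      (mul_ne_zero (inv_ne_zero hw0) ((map_ne_zero K.bar).2 (inv_ne_zero hw0)))
    set pp := k / ν * algebraMap F L w⁻¹ with hpp
    have hNp : Algebra.norm F pp = 1 := by
      rw [hpp, map_mul, Algebra.norm_algebraMap, inv_pow, hwr, mul_inv_cancel₀ hN0]
    obtain ⟨δ, hδa, -, hδl⟩ := exists_delta hS h2r ha₀ hd₀ hd₀a hNp
    have hE' := isE_conj K (g := δ) hE
    refine ⟨δ * g * δ⁻¹, M.mul_mem (M.mul_mem (hM δ hδl) hg) (M.inv_mem (hM δ hδl)), ?_⟩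
    rw [one_smul]
    have ea : app δ (ν • a₀) = w⁻¹ • (k • a₀) := by
      rw [hδl, hδa, smul_smul, hpp, ← smul_assoc, Algebra.smul_def]
      congr 1
      field_simp
    have eb : app δ ((s * u * z₀) • a₀) = w⁻¹ • ((s * k) • a₀) := by
      rw [hδl, hδa, smul_smul, hpp, ← smul_assoc, Algebra.smul_def, hν]
      congr 1
      field_simp
    rw [ea, eb, isE_smul K, smul_smul, mul_comm (K.bar w⁻¹), hwn, one_smul] at hE'
    exact hE'
  have lineD : ∀ k s : L, σ s = s → k ≠ 0 → LM M (k • d₀) ((s * k) • d₀) (1 : F) := by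
    intro k s hs hk
    have hskL : σ (1 : L) = -1 := by
      rw [map_one, eq_comm, neg_eq_iff_add_eq_zero, one_add_one_eq_two,
        show (2 : L) = algebraMap F L 2 by rw [map_ofNat], h2, map_zero]
    have hu' : hh hS (d₀ - a₀) (d₀ - a₀) = 0 := by
      rw [hh_sub_left, hh_sub_right, hh_sub_right, hd₀, ha₀, hd₀a, hd₀a', zero_sub, sub_zero]
      rw [map_one] at hskL
      linear_combination -hskL
    obtain ⟨w, hw, hwl⟩ := exists_root hS hu' (lam := 1) hskL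
    have hwa : app w a₀ = d₀ := by
      rw [hw, hh_sub_right, hd₀a, ha₀, sub_zero, mul_one, one_smul, add_sub_cancel]
    obtain ⟨g, hg, hE⟩ := lineA k s hs hk
    rw [one_smul] at hE
    refine ⟨w * g * w⁻¹, M.mul_mem (M.mul_mem (hM w hwl) hg) (M.inv_mem (hM w hwl)), ?_⟩
    rw [one_smul]
    have := isE_conj K (g := w) hE
    rwa [hwl, hwl, hwa] at this
  -- a functional on the powers of a generator
  obtain ⟨u, hu, huF⟩ : ∃ u : L, σ u = u ∧ u ∉ (⊥ : Subalgebra F L) := by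
    by_contra hall
    push Not at hall
    have hle : Submodule.span F {x : L | σ x = x} ≤ Subalgebra.toSubmodule (⊥ : Subalgebra F L) :=
      Submodule.span_le.2 fun x hx => hall x hx
    rw [span_real hS] at hle
    have h1 := Submodule.finrank_mono hle
    rw [finrank_top, show finrank F (Subalgebra.toSubmodule (⊥ : Subalgebra F L)) = 1 from Subalgebra.finrank_bot] at h1
    omega
  haveI := Subalgebra.isSimpleOrder_of_finrank_prime F L hS.prime
  have hint : IsIntegral F u := IsIntegral.of_finite F u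
  have hdeg : (minpoly F u).natDegree = finrank F L := by
    rw [← IntermediateField.adjoin.finrank hint]
    have htop : Algebra.adjoin F {u} = ⊤ := (eq_bot_or_eq_top _).resolve_left fun e =>
      huF (e ▸ Algebra.self_mem_adjoin_singleton F u)
    rw [show IntermediateField.adjoin F {u} = ⊤ from IntermediateField.toSubalgebra_injective (by
      rw [IntermediateField.adjoin_simple_toSubalgebra_of_isAlgebraic hint.isAlgebraic, htop]; rfl)]
    exact IntermediateField.finrank_top'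
  have hli : LinearIndependent F fun i : Fin 5 => u ^ (i : ℕ) :=
    (linearIndependent_pow u).comp (Fin.castLE (by omega)) (Fin.castLE_injective _)
  obtain ⟨ω, hω⟩ := K.exists_moved
  let bs := Module.Basis.span hli
  obtain ⟨ℓ₀, hℓ₀⟩ := LinearMap.exists_extend (bs.constr F ![0, 0, 1, 0, ω])
  set z := R ℓ₀ with hz
  have hval : ∀ i : Fin 5, t (u ^ (i : ℕ) * z) = (![0, 0, 1, 0, ω] : Fin 5 → F) i := fun i => by
    rw [hz, hS.rep, ← bs.constr_basis F ![0, 0, 1, 0, ω] i, ← hℓ₀, LinearMap.comp_apply,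
      Submodule.subtype_apply, Module.Basis.span_apply]
  have hz0 : z ≠ 0 := fun e => by
    have := hval 2
    rw [e, mul_zero, map_zero] at this
    exact zero_ne_one this
  have hσu : ∀ i : ℕ, σ (u ^ i) = u ^ i := fun i => by rw [map_pow, hu]
  set a := (1 : L) • a₀ with hadef
  set b := (u ^ 2 * 1) • a₀ with hbdef
  set b' := (u ^ 3 * 1) • a₀ with hb'def
  set ee := (σ z) • d₀ with heedef
  set f := (u * σ z) • d₀ with hfdef
  have hHad : ∀ μ κ : L, H (μ • a₀) (κ • d₀) = t (μ * σ κ) := fun μ κ => by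
    rw [← t_hh hS, hh_smul_left, hh_smul_right, hd₀a, mul_one]
  have hae : H a ee = 0 := by rw [hHad, hS.inv, one_mul, ← one_mul z, ← pow_zero u]; exact hval 0
  have haf : H a f = 0 := by rw [hHad, map_mul σ, hS.inv, hu, one_mul, ← pow_one u]; exact hval 1
  have hbe : H b ee = 1 := by rw [hHad, hS.inv, mul_one]; exact hval 2
  have hbf : H b f = 0 := by rw [hHad, map_mul σ, hS.inv, hu, mul_one, ← mul_assoc, ← pow_succ]; exact hval 3
  have hb'f : H b' f = ω := by rw [hHad, map_mul σ, hS.inv, hu, mul_one, ← mul_assoc, ← pow_succ]; exact hval 4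
  have haa : H a a = 0 := hline _ _
  have hff : H f f = 0 := h_line_iso hS hd₀ _ _
  have E1 : LM M a b (1 : F) := lineA 1 (u ^ 2) (hσu 2) one_ne_zero
  have E2 : LM M ee f (1 : F) := lineD (σ z) u hu ((map_ne_zero σ).2 hz0)
  have E3 : LM M a b' (1 : F) := lineA 1 (u ^ 3) (hσu 3) one_ne_zero
  have E4 : LM M a f (-((1 : F) * 1)) :=
    LM_comm K haa (hline _ _) (hline _ _) hae haf hbe hbf E1 E2
  obtain ⟨X, hX, hXx⟩ := E4
  obtain ⟨Y, hY, hYx⟩ := E3
  rw [one_mul, hneg, one_smul] at hXx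
  rw [one_smul] at hYx
  have hab' : H a b' = 0 := hline _ _
  have hb'b' : H b' b' = 0 := hline _ _
  have hfa : H f a = 0 := h_eq_zero_symm K haf
  have hfb' : H f b' = K.bar ω := by rw [h_swap K b' f, hb'f]
  have hωω : ω + K.bar ω = 1 := hfix (by rw [map_add, K.bar_bar, add_comm]) fun e0 =>
    hω (by rw [eq_neg_of_add_eq_zero_right e0, hneg])
  refine ⟨a₀, ha₀0, ha₀, by rw [← t_hh hS, ha₀, map_zero], fun g c hg => ?_⟩
  by_cases hc : c = 0
  · rw [show g = 1 from ext_app fun x => by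
      rw [hg.2.2, hc, zero_mul, zero_smul, add_zero]; exact (one_mulVec x).symm]
    exact M.one_mem
  have hc1 : c = 1 := hfix (by rw [eq_neg_of_add_eq_zero_right hg.2.1, hneg]) hc
  rw [show g = X * Y * (X * Y) from ext_app fun x => ?_]
  · exact M.mul_mem (M.mul_mem hX hY) (M.mul_mem hX hY)
  rw [hg.2.2, hc1, one_mul, show a₀ = a by rw [hadef, one_smul]]
  simp only [app_mul, hXx _, hYx _]
  simp only [h_add_left K, h_sub_left K, h_smul_left K, haa, hff, haf, hfa, hab', hb'b', hb'f, hfb',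
    h_eq_zero_symm K hab', mul_zero, sub_zero, add_zero, zero_sub, zero_add]
  funext i
  simp only [Pi.add_apply, Pi.sub_apply, Pi.smul_apply, smul_eq_mul]
  linear_combination (H x a * a i) * hωω -
    (H x f * a i - H x a * f i + H x b' * a i - H x a * b' i + H x a * (ω + K.bar ω) * a i) * h2 +
    (H x a * a i * (1 + 2 * ω + K.bar ω)) * h2

end CfsgLib.UnitExt
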