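import Cfsg.Agent.Lib.Classical.UnitExtField.Wide

/-!
Three or more dimensions over the extension: an overgroup moving an isotropic line is everything.
-/

set_option autoImplicit false
set_option linter.unusedSectionVars false

namespace CfsgLib.UnitExt

open Module Matrix Cfsg
open CfsgLib.ClassicalAut (Unitary.Conj)
open CfsgLib.Classical.Herm
open CfsgLib.Classical.TensorUnitary (line_pars step_pars)
open CfsgLib.Classical.Elation

variable {F : Type*} [Field F] [Finite F] {q n : ℕ} {K : Unitary.Conj F q}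
variable {L : Type*} [Field L] [Finite L] [Algebra F L] [Module L (Fin n → F)]
  [IsScalarTower F L (Fin n → F)]
variable {σ : L ≃+* L} {t : L →ₗ[F] F} {R : (L →ₗ[F] F) →ₗ[F] L}

local notation "H" => hermForm n F q
local notation "V" => (Fin n → F)
local notation "G" => SU n F q

variable {M : Subgroup (SU n F q)}
variable (hS : Setup K σ t R n)
include hS

/-- A non-zero vector orthogonal to two others. -/
theorem exists_perp_two (h3 : 3 * finrank F L ≤ n) (a b : V) :
    ∃ v : V, v ≠ 0 ∧ hh hS v a = 0 ∧ hh hS v b = 0 := by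
  set φ := LinearMap.prod (zeta hS (line (L := L) a)) (zeta hS (line (L := L) b)) with hφ
  have h1 := finrank_le_two (L := L) φ
  have := hS.prime.two_le
  obtain ⟨v, hv, hv0⟩ := Submodule.exists_mem_ne_zero_of_ne_bot (p := LinearMap.ker φ) fun e => by
    rw [e, finrank_bot] at h1; omega
  have hv' : hh hS v a = 0 ∧ hh hS v b = 0 := Prod.mk_eq_zero.1 (LinearMap.mem_ker.1 hv)
  exact ⟨v, hv0, hv'.1, hv'.2⟩

/-- The orthogonal of a non-degenerate pair contains an anisotropic vector. -/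
theorem exists_aniso_perp (h3 : 3 * finrank F L ≤ n) {a b : V}
    (hproj : ∀ x : V, ∃ α β : L, hh hS (x - α • a - β • b) a = 0 ∧ hh hS (x - α • a - β • b) b = 0) :
    ∃ v : V, hh hS v a = 0 ∧ hh hS v b = 0 ∧ hh hS v v ≠ 0 := by
  obtain ⟨v, hv0, hva, hvb⟩ := exists_perp_two hS h3 a b
  by_cases hvv : hh hS v v = 0
  swap
  · exact ⟨v, hva, hvb, hvv⟩
  obtain ⟨v', hv'a, hv'b, hv'v⟩ : ∃ v', hh hS v' a = 0 ∧ hh hS v' b = 0 ∧ hh hS v v' ≠ 0 := by
    by_contra h
    push Not at h
    refine hv0 (hh_nondeg hS fun x => ?_)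
    obtain ⟨α, β, h1, h2⟩ := hproj x
    have h' := h _ h1 h2
    rwa [hh_sub_right, hh_sub_right, hh_smul_right, hh_smul_right, hva, hvb, mul_zero, mul_zero,
      sub_zero, sub_zero] at h'
  by_cases hv'v' : hh hS v' v' = 0
  · obtain ⟨μ, hμ⟩ := exists_aniso hS hvv hv'v hv'v'
    exact ⟨μ • v + v', by rw [hh_add_left, hh_smul_left, hva, hv'a, mul_zero, add_zero],
      by rw [hh_add_left, hh_smul_left, hvb, hv'b, mul_zero, add_zero], hμ⟩
  · exact ⟨v', hv'a, hv'b, hv'v'⟩

/-- The orthogonal of a hyperbolic pair contains an anisotropic vector. -/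
theorem exists_aniso_hyp (h3 : 3 * finrank F L ≤ n) {x z : V} (hxx : hh hS x x = 0) (hzz : hh hS z z = 0)
    (hne : hh hS x z ≠ 0) : ∃ v : V, hh hS v x = 0 ∧ hh hS v z = 0 ∧ hh hS v v ≠ 0 := by
  refine exists_aniso_perp hS h3 fun y => ⟨hh hS y z / hh hS x z, hh hS y x / hh hS z x, ?_, ?_⟩
  · have : hh hS z x ≠ 0 := fun e => hne (hh_zero_symm hS e)
    simp only [hh_sub_left, hh_smul_left, hxx, mul_zero, sub_zero, div_mul_cancel₀ _ this, sub_self]
  · simp only [hh_sub_left, hh_smul_left, hzz, mul_zero, sub_zero, div_mul_cancel₀ _ hne, sub_self]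

/-- An isotropic vector orthogonal to an anisotropic one and not to a vector off its line. -/
theorem iso_sep_three (h3 : 3 * finrank F L ≤ n) {w : V} (hw : hh hS w w ≠ 0) {y : V}
    (hy : ∀ k : L, y ≠ k • w) : ∃ c : V, hh hS c c = 0 ∧ hh hS c w = 0 ∧ hh hS c y ≠ 0 := by
  obtain ⟨z, hzw, hzy⟩ : ∃ z, hh hS z w = 0 ∧ hh hS z y ≠ 0 := by
    by_contra h
    push Not at h
    refine hy (hh hS y w / hh hS w w) (sub_eq_zero.1 (hh_nondeg hS fun z => ?_))
    have h1 := h (z - (hh hS z w / hh hS w w) • w)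
      (by rw [hh_sub_left, hh_smul_left, div_mul_cancel₀ _ hw, sub_self])
    rw [hh_sub_left, hh_smul_left, sub_eq_zero] at h1
    rw [hh_sub_left, hh_smul_left, hh_swap hS z y, h1, hh_swap hS z w, hh_swap hS y w, map_mul σ,
      map_div₀, hh_self hS, hS.inv, sub_eq_zero]
    ring
  by_cases hzz : hh hS z z = 0
  · exact ⟨z, hzz, hzw, hzy⟩
  obtain ⟨v₁, hv₁w, hv₁z, hv₁⟩ := exists_aniso_perp hS h3 (a := w) (b := z) fun x =>
    ⟨hh hS x w / hh hS w w, hh hS x z / hh hS z z, by
      simp only [hh_sub_left, hh_smul_left, hzw, mul_zero, sub_zero, div_mul_cancel₀ _ hw, sub_self], by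
      simp only [hh_sub_left, hh_smul_left, hh_zero_symm hS hzw, mul_zero, sub_zero,
        div_mul_cancel₀ _ hzz, sub_self]⟩
  obtain ⟨J, hJ⟩ := exists_conj_sigma hS
  obtain ⟨s, hs⟩ := J.exists_norm (-hh hS z z / hh hS v₁ v₁)
    (by rw [hJ, map_div₀, map_neg, hh_self hS, hh_self hS])
  rw [hJ] at hs
  obtain ⟨ζ, hζn, hζ1⟩ : ∃ ζ : L, ζ * σ ζ = 1 ∧ ζ ≠ 1 := by
    have : Nontrivial {a : L // a * J.bar a = 1} :=
      (Finite.one_lt_card_iff_nontrivial).1 (by
        rw [card_norm_one J]; have := J.two_le; omega)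
    obtain ⟨⟨ζ, hζ⟩, hne⟩ := exists_ne (⟨1, by rw [map_one, mul_one]⟩ : {a : L // a * J.bar a = 1})
    exact ⟨ζ, by rw [← hJ]; exact hζ, fun e => hne (Subtype.ext e)⟩
  have hiso : ∀ s : L, s * σ s = -hh hS z z / hh hS v₁ v₁ → hh hS (z + s • v₁) (z + s • v₁) = 0 :=
    fun s hs => by
      simp only [hh_add_left, hh_add_right, hh_smul_left, hh_smul_right, hv₁z, hh_zero_symm hS hv₁z,
        mul_zero, add_zero, zero_add]
      rw [show σ s * (s * hh hS v₁ v₁) = s * σ s * hh hS v₁ v₁ by ring, hs, div_mul_cancel₀ _ hv₁,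
        add_neg_cancel]
  have hperp : ∀ s : L, hh hS (z + s • v₁) w = 0 := fun s => by
    rw [hh_add_left, hh_smul_left, hzw, hv₁w, mul_zero, add_zero]
  by_cases h1 : hh hS (z + s • v₁) y = 0
  · refine ⟨z + (ζ * s) • v₁, hiso _ ?_, hperp _, fun h2 => ?_⟩
    · rw [map_mul σ, show ζ * s * (σ ζ * σ s) = ζ * σ ζ * (s * σ s) by ring, hζn, one_mul, hs]
    rw [hh_add_left, hh_smul_left] at h1 h2
    have h4 : (ζ - 1) * (s * hh hS v₁ y) = 0 := by linear_combination h2 - h1
    rcases mul_eq_zero.1 h4 with h4 | h4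
    · exact hζ1 (sub_eq_zero.1 h4)
    · rw [h4, add_zero] at h1; exact hzy h1
  · exact ⟨z + s • v₁, hiso _ hs, hperp _, h1⟩

/-- The image of a line spans more than a totally isotropic line. -/
theorem exists_image_aniso (hn : n ≤ 3 * finrank F L) (h3 : 3 * finrank F L ≤ n) {g : G} {a : V}
    {μ₀ : L} (hmove : ∀ k : L, app g (μ₀ • a) ≠ k • app g a) :
    ∃ μ : L, hh hS (app g (μ • a)) (app g (μ • a)) ≠ 0 := by
  by_contra h
  push Not at h
  have hga : app g a ≠ 0 := fun e => hmove 0 (by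
    have : a = 0 := app_injective g (e.trans (mulVec_zero _).symm)
    rw [this, smul_zero, zero_smul]; exact mulVec_zero _)
  obtain ⟨y, hy⟩ := K.exists_moved
  set p := app g a with hp
  set p' := app g (μ₀ • a) with hp'
  have hpp : hh hS p p = 0 := by have := h 1; rwa [one_smul] at this
  have hp'p' : hh hS p' p' = 0 := h μ₀
  have key : ∀ c : F, algebraMap F L (K.bar c) * hh hS p p' + algebraMap F L c * hh hS p' p = 0 := fun c => by
    have e : app g ((1 + algebraMap F L c * μ₀) • a) = p + algebraMap F L c • p' := by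
      rw [add_smul, one_smul, mul_smul, algebraMap_smul, algebraMap_smul]
      simp only [hp, hp', app, mulVec_add, mulVec_smul]
    have h1 := h (1 + algebraMap F L c * μ₀)
    rw [e] at h1
    simp only [hh_add_left, hh_add_right, hh_smul_left, hh_smul_right, hpp, hp'p', mul_zero, add_zero,
      zero_add, hS.semi] at h1
    linear_combination h1
  have hzero : hh hS p p' = 0 := by
    have h1 := key 1
    have h2 := key y
    rw [map_one, map_one, one_mul, one_mul] at h1
    have h4 : algebraMap F L (K.bar y - y) * hh hS p p' = 0 := by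
      rw [map_sub]; linear_combination h2 - algebraMap F L y * h1
    exact (mul_eq_zero.1 h4).resolve_left ((map_ne_zero _).2 (sub_ne_zero.2 hy))
  obtain ⟨d, hd, hpd, hdp⟩ := exists_partner hS hga hpp
  obtain ⟨v₁, hv₁p, hv₁d, hv₁⟩ := exists_aniso_hyp hS h3 hpp hd (by rw [hpd]; exact one_ne_zero)
  -- coordinates
  let e : L × L × L →ₗ[F] V := (line p).coprod ((line d).coprod (line v₁))
  have hinj : Function.Injective e := by
    rintro ⟨u, v, w⟩ ⟨u', v', w'⟩ huv
    have e1 := congrArg (fun z => hh hS z d) huv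
    have e2 := congrArg (fun z => hh hS z p) huv
    have e3 := congrArg (fun z => hh hS z v₁) huv
    simp only [e, LinearMap.coprod_apply, line_apply, hh_add_left, hh_smul_left, hpp, hd, hpd, hdp, hv₁p,
      hv₁d, hh_zero_symm hS hv₁p, hh_zero_symm hS hv₁d, mul_zero, mul_one, add_zero, zero_add] at e1 e2 e3
    exact Prod.ext e1 (Prod.ext e2 (mul_right_cancel₀ hv₁ e3))
  have hfin : finrank F (L × L × L) = finrank F V := by
    rw [Module.finrank_prod, Module.finrank_prod, Module.finrank_fin_fun]; omega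
  obtain ⟨⟨u, v, w⟩, huv⟩ := (LinearMap.injective_iff_surjective_of_finrank_eq_finrank hfin).1 hinj p'
  simp only [e, LinearMap.coprod_apply, line_apply] at huv
  have hv : v = 0 := by
    have := hzero
    rw [← huv, hh_add_right, hh_add_right, hh_smul_right, hh_smul_right, hh_smul_right, hpp, hpd,
      hh_zero_symm hS hv₁p, mul_zero, mul_one, mul_zero, zero_add, add_zero] at this
    exact (map_eq_zero σ).1 this
  rw [hv, zero_smul, zero_add] at huv
  have hw : w = 0 := by
    have := hp'p'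
    rw [← huv] at this
    simp only [hh_add_left, hh_add_right, hh_smul_left, hh_smul_right, hpp, hv₁p, hh_zero_symm hS hv₁p,
      mul_zero, add_zero, zero_add, mul_eq_zero, map_eq_zero] at this
    tauto
  exact hmove u (by rw [hw, zero_smul, add_zero] at huv; exact huv.symm)

/-- A moved isotropic line gives a pairing of rank one. -/
theorem exists_pair_three (hn : n = 3 * finrank F L) (hM : Over L M) {g : G} (hg : g ∈ M) {a : V}
    (ha : hh hS a a = 0) {μ₀ : L} (hmove : ∀ k : L, app g (μ₀ • a) ≠ k • app g a) :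
    ∃ φ ψ : L →ₗ[F] V, Im hS M φ ∧ Im hS M ψ ∧
      finrank F (LinearMap.range (zeta hS φ ∘ₗ ψ)) = 1 := by
  have ha0 : a ≠ 0 := fun e => hmove 0 (by
    rw [e, smul_zero, zero_smul]; exact mulVec_zero _)
  set φ : L →ₗ[F] V := (lin g).comp (line a) with hφd
  have hφ : Im hS M φ := (im_line hS ha0 ha).comp hS hg
  obtain ⟨μ, hμ⟩ := exists_image_aniso hS hn.le hn.ge hmove
  obtain ⟨μ₁, hμ₁⟩ : ∃ μ₁ : L, ∀ k : L, app g (μ₁ • a) ≠ k • app g (μ • a) := by
    by_contra h
    push Not at h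
    obtain ⟨k₀, hk₀⟩ := h 1
    obtain ⟨k₁, hk₁⟩ := h μ₀
    rw [one_smul] at hk₀
    have : k₀ ≠ 0 := fun e => ha0 (app_injective g (by rw [hk₀, e, zero_smul]; exact (mulVec_zero _).symm))
    exact hmove (k₁ / k₀) (by rw [hk₀, hk₁, smul_smul, div_mul_cancel₀ _ this])
  obtain ⟨c, hcc, hcw, hcy⟩ := iso_sep_three hS hn.ge hμ hμ₁
  have hc0 : c ≠ 0 := fun e => hcy (by rw [e, hh_zero_left])
  have hz : ∀ μ, (zeta hS (line c) ∘ₗ φ) μ = hh hS (app g (μ • a)) c := fun μ => rfl
  refine exists_rank_one hS hM (im_line hS hc0 hcc) hφ (fun e => hcy ?_) ?_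
  · refine hh_zero_symm hS ?_
    rw [← hz, e, LinearMap.zero_apply]
  · have b1 := LinearMap.finrank_range_add_finrank_ker (zeta hS (line c) ∘ₗ φ)
    have b2 : 1 ≤ finrank F (LinearMap.ker (zeta hS (line c) ∘ₗ φ)) :=
      Submodule.one_le_finrank_iff.2 fun e => hμ (by
        have hμ0 : μ = 0 := (Submodule.eq_bot_iff _).1 e μ (by
          rw [LinearMap.mem_ker, hz]; exact hh_zero_symm hS hcw)
        rw [hμ0, zero_smul, show app g (0 : V) = 0 from mulVec_zero _, hh_zero_left])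
    omega

omit hS in
include K in
theorem det_one_add_cube {N : V →ₗ[F] V} (hN : ∀ x, N (N (N x)) = 0) : LinearMap.det (LinearMap.id + N) = 1 := by
  obtain ⟨p, hp⟩ := CharP.exists F
  haveI : Fact p.Prime := ⟨CharP.char_is_prime F p⟩
  rw [← LinearMap.det_toMatrix', map_add, LinearMap.toMatrix'_id]
  set A := LinearMap.toMatrix' N
  have hA : A * A * A = 0 := by
    rw [← LinearMap.toMatrix'_comp, ← LinearMap.toMatrix'_comp,
      show (N ∘ₗ N) ∘ₗ N = 0 from LinearMap.ext hN, map_zero]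
  rcases Nat.eq_zero_or_pos n with rfl | hn
  · exact Matrix.det_fin_zero
  haveI : Nonempty (Fin n) := ⟨⟨0, hn⟩⟩
  have h4 : 3 ≤ p ^ 2 := by have := (Fact.out : p.Prime).two_le; nlinarith
  have h1 : (1 + A) ^ (p ^ 2) = 1 := by
    rw [add_pow_char_pow_of_commute p 2 (Commute.one_left A), one_pow, add_eq_left,
      show p ^ 2 = 3 + (p ^ 2 - 3) by omega, pow_add, show A ^ 3 = A * A * A by noncomm_ring, hA, zero_mul]
  have h2 : ((1 + A).det - 1) ^ (p ^ 2) = 0 := by
    rw [sub_pow_char_pow, one_pow, ← Matrix.det_pow, h1, Matrix.det_one, sub_self]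
  exact sub_eq_zero.1 (eq_zero_of_pow_eq_zero h2)

/-- Elements fixing an isotropic vector, linear over the extension. -/
theorem exists_heis {a w : V} (ha : hh hS a a = 0) (hwa : hh hS w a = 0) {κ : L}
    (hκ : κ + σ κ = -hh hS w w) :
    ∃ g : G, (∀ x, app g x = x + (hh hS x a • w + (κ * hh hS x a - hh hS x w) • a)) ∧ IsLin (L := L) g := by
  let N : V →ₗ[F] V := (line (L := L) w).comp (zeta hS (line a)) +
    (line (L := L) a).comp ((LinearMap.mulLeft F κ).comp (zeta hS (line a)) - zeta hS (line w))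
  have hN : ∀ x, N x = hh hS x a • w + (κ * hh hS x a - hh hS x w) • a := fun x => rfl
  have haw := hh_zero_symm hS hwa
  have hN3 : ∀ x, N (N (N x)) = 0 := fun x => by
    simp only [hN, hh_add_left, hh_smul_left, ha, hwa, haw, mul_zero, zero_mul, add_zero, zero_add, sub_zero,
      zero_sub, zero_smul, neg_zero]
  have hiso : ∀ x y, H ((LinearMap.id + N : V →ₗ[F] V) x) ((LinearMap.id + N : V →ₗ[F] V) y) = H x y := by
    intro x y
    show H (x + N x) (y + N y) = _
    rw [hN, hN, ← t_hh hS, ← t_hh hS x y]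
    congr 1
    simp only [hh_add_left, hh_add_right, hh_smul_left, hh_smul_right, ha, hwa, haw, map_sub, map_mul,
      ← hh_swap hS y a, ← hh_swap hS y w]
    linear_combination (hh hS x a * hh hS a y) * hκ
  obtain ⟨g, hg⟩ := exists_of_lin (K := K) _ hiso (det_one_add_cube (K := K) hN3)
  have hgx : ∀ x, app g x = x + (hh hS x a • w + (κ * hh hS x a - hh hS x w) • a) := fun x => by
    rw [hg]
    show x + N x = _
    rw [hN]
  refine ⟨g, hgx, fun k x => ?_⟩
  rw [hgx, hgx, hh_smul_left, hh_smul_left, smul_add, smul_add, smul_smul, smul_smul, mul_sub, mul_left_comm]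

/-- All transvections with some isotropic centre. -/
theorem exists_centre_three (hM : Over L M) (h3 : 3 * finrank F L ≤ n) {φ ψ : L →ₗ[F] V} (hφ : Im hS M φ)
    (hψ : Im hS M ψ) (h1 : finrank F (LinearMap.range (zeta hS φ ∘ₗ ψ)) = 1) :
    ∃ a : V, a ≠ 0 ∧ hh hS a a = 0 ∧ a ∈ centres K M := by
  obtain ⟨a₀, ha₀0, ha₀, z₀, hz₀, e, he, B, p, hpe, hpb, hBB, hBa, hfam⟩ := exists_family hS hM hφ hψ h1
  have hn₀ : σ (z₀ * σ z₀) = z₀ * σ z₀ := by rw [map_mul σ, hS.inv, mul_comm]
  obtain ⟨u, hu0, hu, hun, -⟩ := exists_real_ker hS hn₀ hn₀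
  obtain ⟨θ, hθ0, hθ⟩ := exists_skew K
  obtain ⟨hab, hfam₁⟩ := hfam u hu hun
  obtain ⟨g₁, hg₁, hSi⟩ := hfam₁ θ hθ e he
  set κ := algebraMap F L θ * (u * z₀) with hκ
  have hκ0 : κ ≠ 0 := mul_ne_zero ((map_ne_zero _).2 hθ0) (mul_ne_zero hu0 hz₀)
  have eκ : θ • ((u * z₀) • a₀) = κ • a₀ := by rw [hκ, ← smul_assoc, Algebra.smul_def]
  rw [eκ] at hSi
  set a := κ • a₀ with haκ
  have hah : hh hS a a = 0 := by rw [haκ, hh_smul_left, hh_smul_right, ha₀, mul_zero, mul_zero]
  have haa : H a a = 0 := by rw [← t_hh hS, hah, map_zero]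
  set b := θ • B e with hb
  have hba : H b a = 0 := by
    rw [hb, ← eκ, h_smul_left K, h_smul_right K, h_eq_zero_symm K (hab e), mul_zero, mul_zero]
  have hbp : b ∈ pars K M haa := by
    refine ⟨g₁, hg₁, θ * p e, haa, hba, ?_, hSi⟩
    rw [hb, h_smul_left K, h_smul_right K, hBB, map_mul, hpb e he]
    linear_combination (p e) * hθ
  obtain ⟨ν, hν⟩ : ∃ ν, ν = hh hS b a₀ := ⟨_, rfl⟩
  have hν0 : ν ≠ 0 := by
    rw [hν, hb, ← algebraMap_smul L θ (B e), hh_smul_left, hBa, Algebra.smul_def]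
    exact mul_ne_zero ((map_ne_zero _).2 hθ0) (mul_ne_zero ((map_ne_zero _).2 hpe) hz₀)
  have hdel : ∀ (w : V) (κ' : L), hh hS w a₀ = 0 → κ' + σ κ' = -hh hS w w →
      ν • w + (κ' * ν - hh hS b w) • a₀ ∈ pars K M haa := by
    intro w κ' hwa hκ'
    obtain ⟨E, hE, hEl⟩ := exists_heis hS ha₀ hwa hκ'
    have hEa : app E a = a := by
      rw [haκ, hEl, hE, ha₀, hh_zero_symm hS hwa, zero_smul, mul_zero, sub_zero, zero_smul, add_zero,
        add_zero]
    have := (pars K M haa).sub_mem (pars_stab K haa (hM E hEl) hEa hbp) hbp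
    rwa [hE, ← hν, add_sub_cancel_left] at this
  obtain ⟨d, hd, had, hda⟩ := exists_partner hS ha₀0 ha₀
  obtain ⟨v₁, hv₁a, -, hv₁⟩ := exists_aniso_hyp hS h3 ha₀ hd (by rw [had]; exact one_ne_zero)
  obtain ⟨w₀, hw₀⟩ := exists_w hS
  have htr : ∀ w : V, -(w₀ * hh hS w w) + σ (-(w₀ * hh hS w w)) = -hh hS w w := fun w => by
    rw [map_neg, map_mul σ, hh_self hS]
    linear_combination -(hh hS w w) * hw₀
  refine ⟨a, smul_ne_zero hκ0 ha₀0, hah, haa, fun g c hg => ?_⟩
  obtain ⟨s, hs⟩ := CfsgLib.ClassicalAut.Unitary.skewSurj (n := n) K c (by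
    show (1 : F) * c + K.bar c = 0
    rw [one_mul]; exact hg.2.1)
  change s - 1 * K.bar s = c at hs
  rw [one_mul] at hs
  obtain ⟨ζ, hζ⟩ := t_surj hS s
  set lam := ζ / (ν * σ ν * hh hS v₁ v₁) with hlam
  have h2 := hdel (lam • v₁) _ (by rw [hh_smul_left, hv₁a, mul_zero]) (htr _)
  obtain ⟨g', hg', h'⟩ := isT_comm K haa h2 (hdel v₁ _ hv₁a (htr v₁))
  have hval : ∀ γ δ : L, H (ν • lam • v₁ + γ • a₀) (ν • v₁ + δ • a₀) = s := fun γ δ => by
    rw [← t_hh hS, ← hζ]
    congr 1
    simp only [hh_add_left, hh_add_right, hh_smul_left, hh_smul_right, ha₀, hv₁a,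
      hh_zero_symm hS hv₁a, mul_zero, add_zero]
    rw [hlam]
    have : σ ν ≠ 0 := (map_ne_zero σ).2 hν0
    field_simp
  rw [h_swap K (ν • lam • v₁ + _) (ν • v₁ + _), hval, hs] at h'
  have : g = g' := ext_app fun x => by rw [hg.2.2, h'.2.2]
  exact this ▸ hg'

/-- A centre gives everything. -/
theorem top_of_centre_three (hM : Over L M) (h3 : 3 * finrank F L ≤ n) {a : V} (ha0 : a ≠ 0)
    (ha : hh hS a a = 0) (hC : a ∈ centres K M) : M = ⊤ := by
  have step : ∀ {x z : V}, x ∈ centres K M → hh hS x x = 0 → hh hS z z = 0 → hh hS x z ≠ 0 →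
      σ (hh hS x z) = -hh hS x z → z ∈ centres K M := by
    intro x z hx hxx hzz hne hsk
    have hzx : hh hS z x = -hh hS x z := by rw [hh_swap hS x z, hsk]
    have hu : hh hS (z - x) (z - x) = 0 := by
      rw [hh_sub_left, hh_sub_right, hh_sub_right, hxx, hzz, hzx]; ring
    obtain ⟨g, hg, hgl⟩ := exists_root hS hu (lam := (hh hS x z)⁻¹) (by rw [map_inv₀, hsk, inv_neg])
    have e : app g x = z := by
      rw [hg, hh_sub_right, hxx, sub_zero, inv_mul_cancel₀ hne, one_smul, add_sub_cancel]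
    exact e ▸ app_mem_centres K (hM g hgl) hx
  obtain ⟨θ, hθ0, hθ⟩ := exists_skew K
  obtain ⟨Θ, hΘd⟩ : ∃ Θ, Θ = algebraMap F L θ := ⟨_, rfl⟩
  have hΘ : σ Θ = -Θ := by
    rw [hΘd, hS.semi, eq_neg_of_add_eq_zero_right hθ, map_neg]
  have hΘ0 : Θ ≠ 0 := hΘd ▸ (map_ne_zero _).2 hθ0
  obtain ⟨J, hJ⟩ := exists_conj_sigma hS
  have join : ∀ {x z : V}, x ∈ centres K M → hh hS x x = 0 → hh hS z z = 0 → hh hS x z ≠ 0 →
      z ∈ centres K M := by
    intro x z hx hxx hzz hne
    set c := hh hS x z with hc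
    have hzx : hh hS z x = σ c := hh_swap hS x z
    have hc' : σ c ≠ 0 := (map_ne_zero σ).2 hne
    obtain ⟨v₁, hv₁x, hv₁z, hv₁⟩ := exists_aniso_hyp hS h3 hxx hzz hne
    obtain ⟨y₀, hy₀⟩ : ∃ y₀, y₀ = (Θ / c) • x + (-Θ / σ c) • z := ⟨_, rfl⟩
    have e1 : hh hS x y₀ = Θ := by
      rw [hy₀, hh_add_right, hh_smul_right, hh_smul_right, hxx, mul_zero, zero_add, map_div₀, map_neg,
        hΘ, neg_neg, hS.inv, ← hc, div_mul_cancel₀ _ hne]
    have e2 : hh hS y₀ z = Θ := by
      rw [hy₀, hh_add_left, hh_smul_left, hh_smul_left, hzz, mul_zero, add_zero, ← hc,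
        div_mul_cancel₀ _ hne]
    obtain ⟨s, hs⟩ := J.exists_norm (-hh hS y₀ y₀ / hh hS v₁ v₁)
      (by rw [hJ, map_div₀, map_neg, hh_self hS, hh_self hS])
    rw [hJ] at hs
    obtain ⟨y, hy⟩ : ∃ y, y = y₀ + s • v₁ := ⟨_, rfl⟩
    have hv₁y : hh hS v₁ y₀ = 0 := by
      rw [hy₀, hh_add_right, hh_smul_right, hh_smul_right, hv₁x, hv₁z, mul_zero, mul_zero, add_zero]
    have hyy : hh hS y y = 0 := by
      simp only [hy, hh_add_left, hh_add_right, hh_smul_left, hh_smul_right, hv₁y,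
        hh_zero_symm hS hv₁y, mul_zero, add_zero, zero_add]
      rw [show σ s * (s * hh hS v₁ v₁) = s * σ s * hh hS v₁ v₁ by ring, hs, div_mul_cancel₀ _ hv₁,
        add_neg_cancel]
    have hxy : hh hS x y = Θ := by
      rw [hy, hh_add_right, hh_smul_right, hh_zero_symm hS hv₁x, mul_zero, add_zero, e1]
    have hyz : hh hS y z = Θ := by
      rw [hy, hh_add_left, hh_smul_left, hv₁z, mul_zero, add_zero, e2]
    exact step (step hx hxx hyy (hxy.symm ▸ hΘ0) (by rw [hxy, hΘ])) hyy hzz (hyz.symm ▸ hΘ0)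
      (by rw [hyz, hΘ])
  have all : ∀ z, hh hS z z = 0 → z ∈ centres K M := by
    intro z hzz
    by_cases hz0 : z = 0
    · subst hz0
      have := smul_mem_centres K (0 : F) hC
      rwa [zero_smul] at this
    by_cases haz : hh hS a z = 0
    swap
    · exact join hC ha hzz haz
    obtain ⟨d, hd, had, hda⟩ := exists_partner hS ha0 ha
    have hdc : d ∈ centres K M := join hC ha hd (by rw [had]; exact one_ne_zero)
    by_cases hdz : hh hS d z = 0
    swap
    · exact join hdc hd hzz hdz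
    obtain ⟨d', hd', hzd', hd'z⟩ := exists_partner hS hz0 hzz
    have hd'c : d' ∈ centres K M → z ∈ centres K M := fun h =>
      join h hd' hzz (by rw [hd'z]; exact one_ne_zero)
    by_cases had' : hh hS a d' = 0
    swap
    · exact hd'c (join hC ha hd' had')
    obtain ⟨κ, hκ⟩ := exists_iso_shift hS ha (x := d + d') (by
      rw [hh_add_left, hda, hh_swap hS a d', had', map_zero, add_zero]; exact one_ne_zero)
    have hy1 : hh hS a (d + d' + κ • a) = 1 := by
      rw [hh_add_right, hh_add_right, hh_smul_right, ha, had, had', mul_zero, add_zero, add_zero]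
    have hy2 : hh hS (d + d' + κ • a) z = 1 := by
      rw [hh_add_left, hh_add_left, hh_smul_left, haz, hdz, hd'z, mul_zero, zero_add, add_zero]
    exact join (join hC ha hκ (by rw [hy1]; exact one_ne_zero)) hκ hzz (by rw [hy2]; exact one_ne_zero)
  -- the parameters at `a`
  have hline : ∀ b, hh hS b b = 0 → hh hS b a = 0 → ∀ δ : F, δ • b ∈ pars K M hC.1 := by
    intro b hb hba δ
    refine line_pars hC.1 hC (by rw [← t_hh hS, hba, map_zero]) (fun c => all _ ?_) (fun c => all _ ?_) δ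
    · rw [← algebraMap_smul L c b, hh_smul_left, hh_smul_right, hb, mul_zero, mul_zero]
    · rw [← algebraMap_smul L c b]
      simp only [hh_add_left, hh_add_right, hh_smul_left, hh_smul_right, ha, hb, hba,
        hh_zero_symm hS hba, mul_zero, add_zero]
  have hiso : ∀ y, hh hS y y = 0 → hh hS y a ≠ 0 → H y a = 0 → y ∈ pars K M hC.1 := by
    intro y hy hya hHya
    have hay' : hh hS a y ≠ 0 := fun e => hya (hh_zero_symm hS e)
    obtain ⟨ζ, hζ⟩ := t_surj hS 1
    set b := (ζ / hh hS a y) • a with hb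
    have hby : H b y = 1 := by
      rw [← t_hh hS, hb, hh_smul_left, div_mul_cancel₀ _ hay', hζ]
    have := step_pars (K := K) (x := b) (g := y) hC.1
      (hline b (by rw [hb, hh_smul_left, hh_smul_right, ha, mul_zero, mul_zero])
        (by rw [hb, hh_smul_left, ha, mul_zero]))
      (all y hy) (h_eq_zero_symm K hHya) (by rw [hby]; exact one_ne_zero) 1
    rwa [one_smul] at this
  have hself : ∀ κ : L, κ • a ∈ pars K M hC.1 := fun κ => by
    have := hline (κ • a) (by rw [hh_smul_left, hh_smul_right, ha, mul_zero, mul_zero])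
      (by rw [hh_smul_left, ha, mul_zero]) 1
    rwa [one_smul] at this
  have hne : ∀ x, hh hS x a ≠ 0 → H x a = 0 → x ∈ pars K M hC.1 := by
    intro x hxa hHxa
    obtain ⟨κ, hκ⟩ := exists_iso_shift hS ha hxa
    have e : hh hS (x + κ • a) a = hh hS x a := by
      rw [hh_add_left, hh_smul_left, ha, mul_zero, add_zero]
    have h1 := hiso _ hκ (by rw [e]; exact hxa) (by rw [← t_hh hS, e, t_hh hS, hHxa])
    have := (pars K M hC.1).sub_mem h1 (hself κ)
    rwa [add_sub_cancel_right] at this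
  obtain ⟨d, hd, had, hda⟩ := exists_partner hS ha0 ha
  have hall : ∀ x, H x a = 0 → x ∈ pars K M hC.1 := by
    intro x hHxa
    by_cases hxa : hh hS x a = 0
    swap
    · exact hne x hxa hHxa
    obtain ⟨β, hβ0, -, hβ, -⟩ := exists_real_ker hS (map_one σ) (map_one σ)
    rw [mul_one] at hβ
    have e : hh hS (β • d) a = β := by rw [hh_smul_left, hda, mul_one]
    have h1 := hne (x + β • d) (by rw [hh_add_left, hxa, e, zero_add]; exact hβ0)
      (by rw [← t_hh hS, hh_add_left, hxa, e, zero_add, hβ])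
    have h2 := hne (β • d) (by rw [e]; exact hβ0) (by rw [← t_hh hS, e, hβ])
    have := (pars K M hC.1).sub_mem h1 h2
    rwa [add_sub_cancel_right] at this
  -- an element moving `a`
  obtain ⟨ζ, hζ⟩ := t_surj hS 1
  set y := σ ζ • d with hy
  have hay : H a y = 1 := by rw [hy, ← t_hh hS, hh_smul_right, had, hS.inv, mul_one, hζ]
  have hya : H y a = 1 := by rw [h_swap K a y, hay, map_one]
  have hyy : hh hS y y = 0 := by rw [hy, hh_smul_left, hh_smul_right, hd, mul_zero, mul_zero]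
  obtain ⟨T, hT⟩ := exists_T K (v := y) (c := θ) (by rw [← t_hh hS, hyy, map_zero]) hθ
  have := hS.prime.two_le
  refine eq_top_of_elations K hC.1 (by omega) (fun h => by omega) hC.2 hall
    ((all y hyy).2 T θ hT) ?_
  rw [hT.2.2, h_add_left K, h_smul_left K, hC.1, hay, hya, zero_add, mul_one, mul_one]
  exact hθ0

/-- An overgroup moving an isotropic line over the extension is everything. -/
theorem eq_top_three (hM : Over L M) (hn : n = 3 * finrank F L) {g : G} (hg : g ∈ M) {a : V}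
    (ha : hh hS a a = 0) {μ₀ : L} (hmove : ∀ k : L, app g (μ₀ • a) ≠ k • app g a) : M = ⊤ := by
  obtain ⟨φ, ψ, hφ, hψ, h1⟩ := exists_pair_three hS hn hM hg ha hmove
  obtain ⟨c, hc0, hcc, hC⟩ := exists_centre_three hS hM hn.ge hφ hψ h1
  exact top_of_centre_three hS hM hn.ge hc0 hcc hC

end CfsgLib.UnitExt
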