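import Cfsg.Agent.Lib.Classical.UnitExtField.Top
import Cfsg.Agent.Lib.Classical.UnitExtField.Three

/-!
The normaliser of a field extension of odd prime degree `n / 2`, or of degree at most `n / 4`, closed
under adjoints, is maximal in the special unitary group.
-/

set_option autoImplicit false
set_option linter.unusedSectionVars false

namespace CfsgLib.UnitExt

open Module Matrix Cfsg
open CfsgLib.ClassicalAut (Unitary.Conj)
open CfsgLib.Classical.Herm

variable {F : Type*} [Field F] [Finite F] {q n : ℕ} {K : Unitary.Conj F q}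
variable {L : Type*} [Field L] [Finite L] [Algebra F L] [Module L (Fin n → F)]
  [IsScalarTower F L (Fin n → F)]
variable {σ : L ≃+* L} {t : L →ₗ[F] F} {R : (L →ₗ[F] F) →ₗ[F] L}

local notation "H" => hermForm n F q
local notation "V" => (Fin n → F)
local notation "G" => SU n F q

variable (hS : Setup K σ t R n)
include hS

/-- An element keeping all isotropic lines over `L` normalises `L`. -/
theorem normalizes {g : G}
    (hl : ∀ a : V, hh hS a a = 0 → ∀ μ : L, ∃ k : L, app g (μ • a) = k • app g a) (k : L) :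
    ∃ k' : L, ∀ x, app g (k • x) = k' • app g x := by
  classical
  have happ : ∀ y z, app g (y + z) = app g y + app g z := app_add g
  obtain ⟨a, ha0, ha⟩ : ∃ a : V, a ≠ 0 ∧ hh hS a a = 0 := by
    obtain ⟨y, hy⟩ : ∃ y : V, y ≠ 0 := by
      have : 0 < n := by have := hS.dim; have := hS.prime.pos; omega
      exact ⟨Pi.single ⟨0, this⟩ 1, by simp⟩
    by_cases h0 : hh hS y y = 0
    · exact ⟨y, hy, h0⟩
    obtain ⟨z, hz, hzy⟩ : ∃ z : V, z ≠ 0 ∧ hh hS z y = 0 := by
      let f : V →ₗ[F] L := zeta hS (line y)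
      have hne : LinearMap.ker f ≠ ⊥ := fun e => by
        have h1 := LinearMap.finrank_le_finrank_of_injective (LinearMap.ker_eq_bot.1 e)
        rw [Module.finrank_fin_fun] at h1
        have := hS.prime.pos
        have := hS.dim
        omega
      obtain ⟨z, hz, hz0⟩ := Submodule.exists_mem_ne_zero_of_ne_bot hne
      exact ⟨z, hz0, hz⟩
    by_cases hzz : hh hS z z = 0
    · exact ⟨z, hz, hzz⟩
    obtain ⟨J, hJ⟩ := exists_conj_sigma hS
    obtain ⟨s, hs⟩ := J.exists_norm (-hh hS z z / hh hS y y)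
      (by rw [hJ, map_div₀, map_neg, hh_self hS, hh_self hS])
    rw [hJ] at hs
    refine ⟨s • y + z, fun e => hzz ?_, ?_⟩
    · have := congrArg (fun v => hh hS v z) e
      simpa only [hh_add_left, hh_smul_left, hh_zero_symm hS hzy, mul_zero, zero_add, hh_zero_left] using this
    · simp only [hh_add_left, hh_add_right, hh_smul_left, hh_smul_right, hzy, hh_zero_symm hS hzy,
        mul_zero, add_zero, zero_add]
      rw [show σ s * (s * hh hS y y) = s * σ s * hh hS y y by ring, hs, div_mul_cancel₀ _ h0,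
        neg_add_cancel]
  obtain ⟨d, hd, had, hda⟩ := exists_partner hS ha0 ha
  have hg0 : ∀ {x : V}, x ≠ 0 → app g x ≠ 0 := fun hx e =>
    hx (app_injective g (e.trans (mulVec_zero _).symm))
  -- images of lines are lines
  have hindep : ∀ {x y : V}, x ≠ 0 → hh hS x x = 0 → (∀ j : L, app g y = j • app g x → ∃ μ : L, y = μ • x) := by
    intro x y hx hxx j hj
    choose c hc using fun μ => hl x hxx μ
    let f : L →ₗ[F] L :=
      { toFun := c
        map_add' := fun μ κ => by
          refine smul_left_injective L (hg0 hx) ?_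
          show c (μ + κ) • app g x = (c μ + c κ) • app g x
          rw [add_smul, ← hc, ← hc, ← hc, add_smul, happ]
        map_smul' := fun e μ => by
          refine smul_left_injective L (hg0 hx) ?_
          show c (e • μ) • app g x = (e • c μ) • app g x
          rw [smul_assoc, ← hc, ← hc, smul_assoc, app_smul] }
    have hinj : Function.Injective f := fun μ κ e => by
      have e' : c μ = c κ := e
      exact smul_left_injective L hx (app_injective g (by rw [hc, hc, e']))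
    obtain ⟨μ, hμ⟩ := LinearMap.injective_iff_surjective.1 hinj j
    exact ⟨μ, app_injective g (by rw [hj, hc, show c μ = j from hμ])⟩
  choose ν hν using fun x : {x : V // hh hS x x = 0} => hl x.1 x.2
  have pair : ∀ {x y : V} (hx : hh hS x x = 0) (hy : hh hS y y = 0),
      x ≠ 0 → hh hS (x + y) (x + y) = 0 → hh hS y x ≠ 0 → ∀ μ, ν ⟨x, hx⟩ μ = ν ⟨y, hy⟩ μ := by
    intro x y hx hy hx0 hxy hne μ
    have h := hν ⟨x + y, hxy⟩ μ
    simp only [smul_add, happ, hν ⟨x, hx⟩ μ, hν ⟨y, hy⟩ μ] at h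
    have h' : (ν ⟨x, hx⟩ μ - ν ⟨x + y, hxy⟩ μ) • app g x =
        (ν ⟨x + y, hxy⟩ μ - ν ⟨y, hy⟩ μ) • app g y := by
      rw [sub_smul, sub_smul]
      linear_combination (norm := module) h
    by_cases hc : ν ⟨x + y, hxy⟩ μ - ν ⟨y, hy⟩ μ = 0
    · rw [hc, zero_smul, smul_eq_zero] at h'
      exact (sub_eq_zero.1 (h'.resolve_right (hg0 hx0))).trans (sub_eq_zero.1 hc)
    · exfalso
      obtain ⟨j, hj⟩ := hindep hx0 hx ((ν ⟨x, hx⟩ μ - ν ⟨x + y, hxy⟩ μ) / (ν ⟨x + y, hxy⟩ μ - ν ⟨y, hy⟩ μ))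
        (y := y) (by rw [div_eq_inv_mul, mul_smul, h', smul_smul, inv_mul_cancel₀ hc, one_smul])
      exact hne (by rw [hj, hh_smul_left, hx, mul_zero])
  obtain ⟨θ, hθ0, hθ⟩ := exists_skew K
  set Θ := algebraMap F L θ
  have hΘ : σ Θ = -Θ := by
    show σ (algebraMap F L θ) = -algebraMap F L θ
    rw [hS.semi, eq_neg_of_add_eq_zero_right hθ, map_neg]
  have hΘ0 : Θ ≠ 0 := (map_ne_zero _).2 hθ0
  have hyy : hh hS (Θ • d) (Θ • d) = 0 := by rw [hh_smul_left, hh_smul_right, hd, mul_zero, mul_zero]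
  -- the scalar attached to `a`
  let f : L → L := fun μ => ν ⟨a, ha⟩ μ
  have hf : ∀ μ, app g (μ • a) = f μ • app g a := hν ⟨a, ha⟩
  have hreal : ∀ {s : L}, σ s = s → s ≠ 0 → ∀ μ, app g ((μ * s) • a) = (f μ * f s) • app g a := by
    intro s hs hs0 μ
    have hsa : hh hS (s • a) (s • a) = 0 := by rw [hh_smul_left, hh_smul_right, ha, mul_zero, mul_zero]
    have e1 := pair hsa hyy (smul_ne_zero hs0 ha0) (by
      simp only [hh_add_left, hh_add_right, hh_smul_left, hh_smul_right, ha, hd, had, hda, hs, hΘ]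
      ring) (by
      rw [hh_smul_left, hh_smul_right, hda, hs, mul_one]; exact mul_ne_zero hΘ0 hs0) μ
    have e2 := pair ha hyy ha0 (by
      simp only [hh_add_left, hh_add_right, hh_smul_left, hh_smul_right, ha, hd, had, hda, hΘ]
      ring) (by rw [hh_smul_left, hda, mul_one]; exact hΘ0) μ
    rw [mul_smul, hν ⟨s • a, hsa⟩ μ, e1, ← e2]
    show f μ • app g (s • a) = _
    rw [hf, smul_smul]
  have hfadd : ∀ μ κ, f (μ + κ) = f μ + f κ := fun μ κ => smul_left_injective L (hg0 ha0) (by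
    show f (μ + κ) • app g a = (f μ + f κ) • app g a
    rw [add_smul (f μ), ← hf, ← hf, ← hf, add_smul, happ])
  have hfsm : ∀ (c : F) μ, f (c • μ) = c • f μ := fun c μ => smul_left_injective L (hg0 ha0) (by
    show f (c • μ) • app g a = (c • f μ) • app g a
    rw [smul_assoc, ← hf, ← hf, smul_assoc, app_smul])
  have hf0 : f 0 = 0 := by simpa using hfsm 0 0
  have hmul : ∀ μ κ, f (μ * κ) = f μ * f κ := by
    intro μ κ
    have hκ : κ ∈ Submodule.span F {x : L | σ x = x} := by rw [span_real hS]; exact Submodule.mem_top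
    induction hκ using Submodule.span_induction with
    | mem s hs =>
      by_cases hs0 : s = 0
      · rw [hs0, mul_zero, hf0, mul_zero]
      · refine smul_left_injective L (hg0 ha0) ?_
        show f (μ * s) • app g a = (f μ * f s) • app g a
        rw [← hf, hreal hs hs0]
    | zero => rw [mul_zero, hf0, mul_zero]
    | add x y _ _ hx hy => rw [mul_add, hfadd, hx, hy, hfadd, mul_add]
    | smul c x _ hx => rw [mul_smul_comm, hfsm, hx, hfsm, mul_smul_comm]
  have semi : ∀ x : V, hh hS x x = 0 → hh hS x a ≠ 0 → ∀ μ, app g (μ • x) = f μ • app g x := by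
    intro x hx hxa
    obtain ⟨c, hc⟩ : ∃ c, c = Θ / hh hS x a := ⟨_, rfl⟩
    have hca : c * hh hS x a = Θ := by rw [hc, div_mul_cancel₀ _ hxa]
    have hac : σ c * hh hS a x = -Θ := by rw [hh_swap hS x a, ← map_mul σ, hca, hΘ]
    have hc0 : c ≠ 0 := by rw [hc]; exact div_ne_zero hΘ0 hxa
    have hcx : hh hS (c • x) (c • x) = 0 := by rw [hh_smul_left, hh_smul_right, hx, mul_zero, mul_zero]
    have e2 : ∀ μ, app g (μ • c • x) = f μ • app g (c • x) := fun μ => by
      rw [hν ⟨c • x, hcx⟩ μ, ← pair ha hcx ha0 (by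
        simp only [hh_add_left, hh_add_right, hh_smul_left, hh_smul_right, ha, hx, hca]
        linear_combination hac) (by rw [hh_smul_left, hca]; exact hΘ0) μ]
    have e3 : ∀ μ, app g (μ • x) = f (μ * c⁻¹) • app g (c • x) := fun μ => by
      rw [← e2, smul_smul, inv_mul_cancel_right₀ hc0]
    intro μ
    have e4 := e3 1
    rw [one_smul, one_mul] at e4
    rw [e3, hmul, mul_smul, ← e4]
  refine ⟨f k, fun x => ?_⟩
  obtain ⟨lam, hlam, hne⟩ : ∃ lam : L, lam ≠ 0 ∧ hh hS x a + lam ≠ 0 := by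
    by_cases h : hh hS x a + 1 = 0
    · obtain ⟨y, hy⟩ := K.exists_moved
      refine ⟨algebraMap F L y, (map_ne_zero _).2 fun e => hy (by rw [e, map_zero]), fun e => hy ?_⟩
      have : y = 1 := (algebraMap F L).injective (by rw [map_one]; linear_combination e - h)
      rw [this, map_one]
    · exact ⟨1, one_ne_zero, h⟩
  obtain ⟨κ, hκ⟩ := exists_iso_shift hS ha (x := x + lam • d) (by
    rw [hh_add_left, hh_smul_left, hda, mul_one]; exact hne)
  have h1 := semi _ hκ (by
    rw [hh_add_left, hh_add_left, hh_smul_left, hh_smul_left, hda, ha, mul_one, mul_zero, add_zero]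
    exact hne) k
  have hdf := semi d hd (by rw [hda]; exact one_ne_zero)
  rw [smul_add, smul_add, smul_smul, smul_smul, happ, happ, happ, happ, hdf (k * lam), hdf lam,
    hf (k * κ), hf κ, hmul, hmul, smul_add, smul_add, smul_smul, smul_smul] at h1
  exact add_right_cancel (add_right_cancel h1)

/-- The normaliser of the extension is maximal. -/
theorem core (hcase : ((n = 2 * finrank F L ∧ ¬ q ^ finrank F L + 1 ∣ (q ^ 2 - 1) ^ 2 ∧
    (q = 2 → 5 ≤ finrank F L)) ∨ 4 * finrank F L ≤ n) ∨ n = 3 * finrank F L)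
    {S : Subalgebra F (Matrix (Fin n) (Fin n) F)}
    (hsm : ∀ m : Matrix (Fin n) (Fin n) F, m ∈ S ↔ ∃ k : L, ∀ x, m *ᵥ x = k • x) :
    Cfsg.Geo.IsMaximalIn (GU n F q ⊓ Cfsg.Geo.specialLinear (Fin n) F)
      (Cfsg.Geo.subalgebraNormalizer S ⊓ (GU n F q ⊓ Cfsg.Geo.specialLinear (Fin n) F)) := by
  classical
  set N := Cfsg.Geo.subalgebraNormalizer S
  have hnorm : ∀ (g : G), (∀ k : L, ∃ k' : L, ∀ x, app g (k • x) = k' • app g x) →
      ∀ m ∈ S, ((toGLHom g : GL (Fin n) F) : Matrix (Fin n) (Fin n) F) * m *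
        (((toGLHom g)⁻¹ : GL (Fin n) F) : Matrix (Fin n) (Fin n) F) ∈ S := by
    intro g hg m hm
    obtain ⟨k, hk⟩ := (hsm m).1 hm
    obtain ⟨k', hk'⟩ := hg k
    refine (hsm _).2 ⟨k', fun x => ?_⟩
    rw [← map_inv, ← mulVec_mulVec, ← mulVec_mulVec]
    show app g (m *ᵥ app g⁻¹ x) = k' • x
    rw [hk, hk', app_inv']
  have hlin : ∀ g : G, IsLin (L := L) g → toGLHom g ∈ N := by
    intro g hg m
    refine ⟨fun hm => hnorm g (fun k => ⟨k, hg k⟩) m hm, fun hm => ?_⟩
    have hg' : ∀ k : L, ∃ k' : L, ∀ x, app g⁻¹ (k • x) = k' • app g⁻¹ x := fun k =>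
      ⟨k, fun x => app_injective g (by rw [app_inv', hg, app_inv'])⟩
    have := hnorm g⁻¹ hg' _ hm
    simpa [map_inv, mul_assoc, ← mul_assoc (((toGLHom g)⁻¹ : GL (Fin n) F) : Matrix (Fin n) (Fin n) F)]
      using this
  -- some element outside
  have hout : ∃ g : G, toGLHom g ∉ N := by
    obtain ⟨a, ha0, ha⟩ : ∃ a : V, a ≠ 0 ∧ hh hS a a = 0 := by
      by_contra hc
      push Not at hc
      obtain ⟨x, hx⟩ : ∃ x : V, x ≠ 0 := by
        have : 0 < n := by have := hS.dim; have := hS.prime.pos; omega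
        exact ⟨Pi.single ⟨0, this⟩ 1, by simp⟩
      obtain ⟨z, hz, hzx⟩ : ∃ z : V, z ≠ 0 ∧ hh hS z x = 0 := by
        have hne : LinearMap.ker (zeta hS (line x)) ≠ ⊥ := fun e => by
          have h1 := LinearMap.finrank_le_finrank_of_injective (LinearMap.ker_eq_bot.1 e)
          rw [Module.finrank_fin_fun] at h1
          have := hS.prime.pos
          have := hS.dim
          omega
        obtain ⟨z, hz, hz0⟩ := Submodule.exists_mem_ne_zero_of_ne_bot hne
        exact ⟨z, hz0, hz⟩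
      obtain ⟨J, hJ⟩ := exists_conj_sigma hS
      obtain ⟨s, hs⟩ := J.exists_norm (-hh hS z z / hh hS x x)
        (by rw [hJ, map_div₀, map_neg, hh_self hS, hh_self hS])
      rw [hJ] at hs
      refine hc (s • x + z) (fun e => hc z hz ?_) ?_
      · have := congrArg (fun v => hh hS v z) e
        simpa only [hh_add_left, hh_smul_left, hh_zero_symm hS hzx, mul_zero, zero_add, hh_zero_left]
          using this
      · simp only [hh_add_left, hh_add_right, hh_smul_left, hh_smul_right, hzx, hh_zero_symm hS hzx,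
          mul_zero, add_zero, zero_add]
        rw [show σ s * (s * hh hS x x) = s * σ s * hh hS x x by ring, hs, div_mul_cancel₀ _ (hc x hx),
          neg_add_cancel]
    obtain ⟨d, hd, had, -⟩ := exists_partner hS ha0 ha
    obtain ⟨κ, hκ0, hκs, hκ1, -⟩ := exists_real_ker hS (map_one σ) (map_one σ)
    rw [mul_one] at hκ1
    obtain ⟨k, hk, hkκ⟩ := exists_real_ne hS hκ0
    set v := κ • d with hv
    have hvv : H v v = 0 := h_line_iso hS hd _ _
    obtain ⟨c, hc0, hc⟩ := exists_skew K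
    obtain ⟨g, hg⟩ := exists_T K hvv hc
    refine ⟨g, fun hN => ?_⟩
    have hadj : ∀ μ : L, H (μ • a) v = t (μ * κ) := fun μ => by
      rw [hv, ← t_hh hS, hh_smul_left, hh_smul_right, had, hκs, mul_one]
    have hga : app g a = a := by
      rw [hg.2.2, ← one_smul L a, hadj, one_mul, hκ1, mul_zero, zero_smul, add_zero]
    have hkm : LinearMap.toMatrix' ((LinearMap.lsmul L V k).restrictScalars F) ∈ S :=
      (hsm _).2 ⟨k, fun x => by rw [← Matrix.toLin'_apply, Matrix.toLin'_toMatrix']; rfl⟩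
    obtain ⟨k', hk'⟩ := (hsm _).1 ((hN _).1 hkm)
    have e := hk' (app g a)
    rw [← map_inv, ← mulVec_mulVec, ← mulVec_mulVec] at e
    change app g (LinearMap.toMatrix' ((LinearMap.lsmul L V k).restrictScalars F) *ᵥ app g⁻¹ (app g a)) =
      k' • app g a at e
    rw [app_inv, ← Matrix.toLin'_apply, Matrix.toLin'_toMatrix', hga] at e
    change app g (k • a) = k' • a at e
    rw [hg.2.2, hadj] at e
    have h1 := congrArg (fun z => hh hS z a) e
    simp only [hh_add_left, hh_smul_left, ha, mul_zero, zero_add] at h1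
    rw [← algebraMap_smul L (c * t (k * κ)) v, hv, hh_smul_left, hh_smul_left,
      hh_swap hS a d, had, map_one, mul_one] at h1
    exact (mul_ne_zero ((map_ne_zero _).2 (mul_ne_zero hc0 hkκ)) hκ0) h1
  refine ⟨lt_of_le_not_ge inf_le_right fun hle => ?_, fun M h1 h2 => ?_⟩
  · obtain ⟨g, hg⟩ := hout
    exact hg (hle ((mem_range_iff _).2 ⟨g, rfl⟩)).1
  set M' := M.comap toGLHom
  have hover : Over L M' := fun g hg => h1 ⟨hlin g hg, (mem_range_iff _).2 ⟨g, rfl⟩⟩
  by_cases hbad : ∃ g ∈ M', ∃ a : V, hh hS a a = 0 ∧ ∃ μ : L, ∀ k : L, app g (μ • a) ≠ k • app g a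
  · right
    obtain ⟨g, hg, a, ha, μ, hmove⟩ := hbad
    have htop : M' = ⊤ := by
      rcases hcase with (⟨h2r, hqr, hr⟩ | hwide) | h3
      · exact eq_top hS hover h2r hqr hr hg ha hmove
      · exact eq_top_wide hS hover hwide hg ha hmove
      · exact eq_top_three hS hover h3 hg ha hmove
    refine le_antisymm h2 fun g hg => ?_
    obtain ⟨s, rfl⟩ := (mem_range_iff g).1 hg
    have : s ∈ M' := htop ▸ Subgroup.mem_top s
    exact this
  · left
    push Not at hbad
    refine le_antisymm (fun g hg => ?_) h1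
    obtain ⟨s, rfl⟩ := (mem_range_iff g).1 (h2 hg)
    refine ⟨fun m => ?_, h2 hg⟩
    have key : ∀ s ∈ M', ∀ m ∈ S, ((toGLHom s : GL (Fin n) F) : Matrix (Fin n) (Fin n) F) * m *
        (((toGLHom s)⁻¹ : GL (Fin n) F) : Matrix (Fin n) (Fin n) F) ∈ S := fun s hs =>
      hnorm s fun k => normalizes hS (fun a ha μ => hbad s hs a ha μ) k
    refine ⟨key s hg m, fun h => ?_⟩
    have h3 := key s⁻¹ (M'.inv_mem hg) _ h
    simpa [map_inv, mul_assoc, ← mul_assoc (((toGLHom s)⁻¹ : GL (Fin n) F) : Matrix (Fin n) (Fin n) F)]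
      using h3

omit hS in
theorem core_range {L : Type*} [Field L] [Finite L] [Algebra F L] (K : Unitary.Conj F q) {r : ℕ}
    (hrL : finrank F L = r) (hr : r.Prime) (hro : Odd r) 
    (hcase : ((n = 2 * r ∧ ¬ q ^ r + 1 ∣ (q ^ 2 - 1) ^ 2 ∧ (q = 2 → 5 ≤ r)) ∨ 4 * r ≤ n) ∨ n = 3 * r)
    (ρ : L →ₐ[F] Matrix (Fin n) (Fin n) F) (hρ : Function.Injective ρ)
    (hac : Cfsg.Geo.IsAdjointClosedFor (hermForm n F q) ρ.range) :
    Cfsg.Geo.IsMaximalIn (GU n F q ⊓ Cfsg.Geo.specialLinear (Fin n) F)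
      (Cfsg.Geo.subalgebraNormalizer ρ.range ⊓ (GU n F q ⊓ Cfsg.Geo.specialLinear (Fin n) F)) := by
  classical
  letI : Module L V := Module.compHom _ ρ.toRingHom
  have hsm : ∀ (k : L) (x : V), k • x = ρ k *ᵥ x := fun k x => rfl
  haveI : IsScalarTower F L V := IsScalarTower.of_algebraMap_smul fun c x => by
    rw [hsm, AlgHom.commutes, Algebra.algebraMap_eq_smul_one, smul_mulVec, one_mulVec]
  choose σ hσm hσ using fun k : L => hac (ρ k) ⟨k, rfl⟩
  choose s hs' using fun k : L => (hσm k : ∃ j, ρ j = σ k)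
  have hs : ∀ (k : L) (x y : V), H (k • x) y = H x (s k • y) := fun k x y => by
    show hermForm n F q (ρ k *ᵥ x) y = hermForm n F q x (ρ (s k) *ᵥ y)
    rw [show ρ (s k) = σ k from hs' k]; exact hσ k x y
  have huniq : ∀ (k k' : L), (∀ x y : V, H x (k • y) = H x (k' • y)) → k = k' := fun k k' h => by
    refine hρ (Matrix.ext_iff_mulVec.2 fun y => ?_)
    rw [← hsm, ← hsm]
    exact sub_eq_zero.1 (h_nondeg K fun x => h_eq_zero_symm K (by rw [h_sub_right K, h, sub_self]))
  have hss : ∀ k, s (s k) = k := fun k => huniq _ _ fun x y => by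
    rw [← hs, h_swap K y (s k • x), ← hs, ← h_swap K (k • y) x]
  let σe : L ≃+* L :=
    { toFun := s
      invFun := s
      left_inv := hss
      right_inv := hss
      map_mul' := fun k k' => huniq _ _ fun x y => by
        rw [mul_comm (s k), mul_smul, ← hs, ← hs, ← hs, mul_smul]
      map_add' := fun k k' => huniq _ _ fun x y => by
        rw [← hs, add_smul, h_add_left K, hs, hs, ← h_add_right K, add_smul] }
  have hsemi : ∀ c : F, σe (algebraMap F L c) = algebraMap F L (K.bar c) := fun c => huniq _ _ fun x y => by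
    show H x (s _ • y) = _
    rw [← hs, algebraMap_smul, algebraMap_smul, h_smul_left K, h_smul_right K, K.bar_bar]
  haveI : FiniteDimensional F L := Module.Finite.of_finite
  obtain ⟨t₀, ht₀⟩ : ∃ t : L →ₗ[F] F, t ≠ 0 := by
    obtain ⟨ℓ, hℓ, -⟩ := Submodule.exists_le_ker_of_notMem
      (show (1 : L) ∉ (⊥ : Submodule F L) by simpa using (one_ne_zero : (1 : L) ≠ 0))
    exact ⟨ℓ, fun e => hℓ (by rw [e]; rfl)⟩
  have hsemi' : ∀ (c : F) (z : L), σe (c • z) = K.bar c • σe z := fun c z => by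
    rw [Algebra.smul_def, Algebra.smul_def, map_mul σe, hsemi]
  let J : (L →ₗ[F] F) → (L →ₗ[F] F) := fun f =>
    { toFun := fun z => K.bar (f (σe z))
      map_add' := fun x y => by rw [map_add σe, map_add, map_add]
      map_smul' := fun c x => by
        rw [hsemi', map_smul, smul_eq_mul, map_mul, K.bar_bar, RingHom.id_apply, smul_eq_mul] }
  obtain ⟨t, ht, htb⟩ : ∃ t : L →ₗ[F] F, t ≠ 0 ∧ ∀ z, t (σe z) = K.bar (t z) := by
    obtain ⟨y, hy⟩ := K.exists_moved
    have key : ∀ f : L →ₗ[F] F, ∀ z, (f + J f) (σe z) = K.bar ((f + J f) z) := fun f z => by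
      show f (σe z) + K.bar (f (σe (σe z))) = K.bar (f z + K.bar (f (σe z)))
      rw [show σe (σe z) = z from hss z, map_add, K.bar_bar, add_comm]
    by_cases h : t₀ + J t₀ = 0
    · refine ⟨y • t₀ + J (y • t₀), fun e => ht₀ (LinearMap.ext fun z => ?_), key _⟩
      have e1 : y * t₀ z + K.bar (y * t₀ (σe z)) = 0 := LinearMap.congr_fun e z
      have e2 : t₀ z + K.bar (t₀ (σe z)) = 0 := LinearMap.congr_fun h z
      rw [map_mul] at e1
      have e3 : (y - K.bar y) * t₀ z = 0 := by linear_combination e1 - K.bar y * e2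
      exact (mul_eq_zero.1 e3).resolve_left (sub_ne_zero.2 (Ne.symm hy))
    · exact ⟨_, h, key _⟩
  set e : L →ₗ[F] (L →ₗ[F] F) := (LinearMap.mul F L).compr₂ t with he
  have hinj : Function.Injective e := by
    rw [← LinearMap.ker_eq_bot, LinearMap.ker_eq_bot']
    intro z hz
    by_contra hz0
    refine ht (LinearMap.ext fun k => ?_)
    have h1 : t (z * (z⁻¹ * k)) = 0 := LinearMap.congr_fun hz (z⁻¹ * k)
    rwa [mul_inv_cancel_left₀ hz0] at h1
  have hfin : finrank F L = finrank F (L →ₗ[F] F) := (Subspace.dual_finrank_eq).symm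
  set R := (LinearEquiv.ofInjectiveOfFinrankEq e hinj hfin).symm.toLinearMap with hR
  have hrep : ∀ (ℓ : L →ₗ[F] F) (μ : L), t (μ * R ℓ) = ℓ μ := fun ℓ μ => by
    have h1 : e (R ℓ) = ℓ := (LinearEquiv.ofInjectiveOfFinrankEq e hinj hfin).apply_symm_apply ℓ
    rw [mul_comm]
    exact LinearMap.congr_fun h1 μ
  exact core (L := L) (σ := σe) (t := t) (R := R)
    ⟨hsemi, hss, hs, htb, ht, hrep, by rw [hrL]; exact hr, by rw [hrL]; exact hro, by rw [hrL]; omega⟩
    (by rw [hrL]; exact hcase) fun m => ⟨fun ⟨k, hk⟩ => ⟨k, fun x => by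
      rw [hsm, ← hk]; rfl⟩, fun ⟨k, hk⟩ => ⟨k, (Matrix.ext_iff_mulVec.2 hk).symm⟩⟩

omit hS in
/-- The normaliser of an adjoint-closed field of matrices of degree `n / 2`, or at most `n / 4`, is maximal. -/
theorem isMaximalIn_field_of (K : Unitary.Conj F q) {r : ℕ} (hr : r.Prime) (hro : Odd r) 
    (hcase : ((n = 2 * r ∧ ¬ q ^ r + 1 ∣ (q ^ 2 - 1) ^ 2 ∧ (q = 2 → 5 ≤ r)) ∨ 4 * r ≤ n) ∨ n = 3 * r)
    (S : Subalgebra F (Matrix (Fin n) (Fin n) F))
    (hS : Cfsg.Geo.IsFieldSubalgebra r S)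
    (hac : Cfsg.Geo.IsAdjointClosedFor (hermForm n F q) S) :
    Cfsg.Geo.IsMaximalIn (GU n F q ⊓ Cfsg.Geo.specialLinear (Fin n) F)
      (Cfsg.Geo.subalgebraNormalizer S ⊓ (GU n F q ⊓ Cfsg.Geo.specialLinear (Fin n) F)) := by
  classical
  haveI : Nonempty (Fin n) := ⟨⟨0, by have := hr.pos; rcases hcase with (⟨h, -⟩ | h) | h <;> omega⟩⟩
  have hfield : IsField S :=
    ⟨⟨0, 1, fun e => zero_ne_one (congrArg Subtype.val e)⟩,
      fun a b => Subtype.ext (hS.comm a a.2 b b.2),
      fun {a} ha => by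
        obtain ⟨y, hy, e⟩ := hS.inv a a.2 fun e => ha (Subtype.ext e)
        exact ⟨⟨y, hy⟩, Subtype.ext e⟩⟩
  letI : Field S := hfield.toField
  haveI : Finite S := Finite.of_injective _ Subtype.val_injective
  have h := core_range K hS.finrank_eq hr hro hcase S.val Subtype.val_injective
    (by rw [Subalgebra.range_val]; exact hac)
  rwa [Subalgebra.range_val] at h

omit hS in
/-- The normaliser of an adjoint-closed field of matrices of degree `n / 2`, or at most `n / 4`, is maximal. -/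
theorem isMaximalIn_field (K : Unitary.Conj F q) {r : ℕ} (hr : r.Prime) (hro : Odd r) 
    (hcase : (n = 2 * r ∧ ¬ q ^ r + 1 ∣ (q ^ 2 - 1) ^ 2 ∧ (q = 2 → 5 ≤ r)) ∨ 4 * r ≤ n)
    (S : Subalgebra F (Matrix (Fin n) (Fin n) F))
    (hS : Cfsg.Geo.IsFieldSubalgebra r S)
    (hac : Cfsg.Geo.IsAdjointClosedFor (hermForm n F q) S) :
    Cfsg.Geo.IsMaximalIn (GU n F q ⊓ Cfsg.Geo.specialLinear (Fin n) F)
      (Cfsg.Geo.subalgebraNormalizer S ⊓ (GU n F q ⊓ Cfsg.Geo.specialLinear (Fin n) F)) :=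
  isMaximalIn_field_of K hr hro (Or.inl hcase) S hS hac

omit hS in
/-- The normaliser of an adjoint-closed field of matrices of degree `n / 3` is maximal. -/
theorem isMaximalIn_three (K : Unitary.Conj F q) {r : ℕ} (hr : r.Prime) (hro : Odd r) (hn : n = 3 * r)
    (S : Subalgebra F (Matrix (Fin n) (Fin n) F))
    (hS : Cfsg.Geo.IsFieldSubalgebra r S)
    (hac : Cfsg.Geo.IsAdjointClosedFor (hermForm n F q) S) :
    Cfsg.Geo.IsMaximalIn (GU n F q ⊓ Cfsg.Geo.specialLinear (Fin n) F)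
      (Cfsg.Geo.subalgebraNormalizer S ⊓ (GU n F q ⊓ Cfsg.Geo.specialLinear (Fin n) F)) :=
  isMaximalIn_field_of K hr hro (Or.inr hn) S hS hac

omit hS in
/-- The normaliser of an adjoint-closed field of matrices of degree `n / 2` is maximal. -/
theorem isMaximalIn (K : Unitary.Conj F q) {r : ℕ} (hr : r.Prime) (hro : Odd r) (hn : n = 2 * r)
    (hqr : ¬ q ^ r + 1 ∣ (q ^ 2 - 1) ^ 2) (hr2 : q = 2 → 5 ≤ r)
    (S : Subalgebra F (Matrix (Fin n) (Fin n) F))
    (hS : Cfsg.Geo.IsFieldSubalgebra r S)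
    (hac : Cfsg.Geo.IsAdjointClosedFor (hermForm n F q) S) :
    Cfsg.Geo.IsMaximalIn (GU n F q ⊓ Cfsg.Geo.specialLinear (Fin n) F)
      (Cfsg.Geo.subalgebraNormalizer S ⊓ (GU n F q ⊓ Cfsg.Geo.specialLinear (Fin n) F)) :=
  isMaximalIn_field K hr hro (Or.inl ⟨hn, hqr, hr2⟩) S hS hac

end CfsgLib.UnitExt
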