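import Mathlib

/-!
Common zeros, rational over a subfield, of polynomials of small total degree.
-/

set_option autoImplicit false
set_option linter.unusedSectionVars false

namespace CfsgLib.UnitExt

open MvPolynomial

variable {F : Type*} [Field F] [Finite F] {ι : Type*} [Fintype ι] [DecidableEq ι] (F₀ : Subfield F)

/-- Summing a polynomial of small degree over the rational points gives zero. -/
theorem sum_rat_eq_zero [Fintype F₀] {P : MvPolynomial ι F}
    (hP : P.totalDegree < (Fintype.card F₀ - 1) * Fintype.card ι) :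
    ∑ x : ι → F₀, eval (fun i => (x i : F)) P = 0 := by
  classical
  simp only [eval_eq']
  rw [Finset.sum_comm]
  refine Finset.sum_eq_zero fun d hd => ?_
  rw [← Finset.mul_sum]
  refine mul_eq_zero_of_right _ ?_
  obtain ⟨i, hi⟩ : ∃ i, d i < Fintype.card F₀ - 1 := by
    by_contra hc
    push Not at hc
    have h1 := (le_totalDegree hd).trans_lt hP
    rw [Finsupp.sum_fintype _ _ (fun _ => rfl)] at h1
    have h2 := Finset.sum_le_sum (s := Finset.univ) fun i _ => hc i
    rw [Finset.sum_const, Finset.card_univ, smul_eq_mul, mul_comm] at h2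
    omega
  rw [← Fintype.prod_sum (fun j (a : F₀) => (a : F) ^ d j)]
  refine Finset.prod_eq_zero (Finset.mem_univ i) ?_
  have := congrArg Subtype.val (FiniteField.sum_pow_lt_card_sub_one (K := F₀) (d i) hi : ∑ a : F₀, a ^ d i = 0)
  simpa [AddSubmonoidClass.coe_finsetSum] using this

/-- Forms vanishing at the origin with few degrees have another rational common zero. -/
theorem exists_rat_zero {k d q : ℕ} (hq : Nat.card F₀ = q) (f : Fin k → MvPolynomial ι F)
    (hd : ∀ j, (f j).totalDegree ≤ d) (hk : k * d < Fintype.card ι)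
    (hval : ∀ j (x : ι → F₀), eval (fun i => (x i : F)) (f j) ∈ F₀)
    (h0 : ∀ j, eval (fun _ => (0 : F)) (f j) = 0) :
    ∃ x : ι → F₀, x ≠ 0 ∧ ∀ j, eval (fun i => (x i : F)) (f j) = 0 := by
  classical
  let _ := Fintype.ofFinite F₀
  rw [Nat.card_eq_fintype_card] at hq
  have hq2 : 1 < q := hq ▸ Fintype.one_lt_card
  by_contra hall
  push Not at hall
  set P : MvPolynomial ι F := ∏ j, (1 - f j ^ (q - 1)) with hP
  have hdeg : P.totalDegree < (Fintype.card F₀ - 1) * Fintype.card ι := by
    refine lt_of_le_of_lt (totalDegree_finset_prod _ _) ?_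
    refine lt_of_le_of_lt (Finset.sum_le_card_nsmul Finset.univ _ ((q - 1) * d) fun j _ => ?_) ?_
    · refine (totalDegree_sub _ _).trans (max_le (by simp) ?_)
      exact (totalDegree_pow _ _).trans (Nat.mul_le_mul_left _ (hd j))
    · rw [Finset.card_univ, Fintype.card_fin, smul_eq_mul, hq, mul_left_comm]
      exact Nat.mul_lt_mul_of_pos_left hk (by omega)
  have hs := sum_rat_eq_zero F₀ hdeg
  rw [Finset.sum_eq_single (0 : ι → F₀) (fun x _ hx => ?_) (fun h => absurd (Finset.mem_univ _) h),
    hP, map_prod] at hs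
  · refine one_ne_zero ((Finset.prod_eq_one fun j _ => ?_).symm.trans hs)
    simp only [Pi.zero_apply, ZeroMemClass.coe_zero, map_sub, map_one, map_pow, h0 j,
      zero_pow (show q - 1 ≠ 0 by omega), sub_zero]
  · obtain ⟨j, hj⟩ := hall x hx
    rw [hP, map_prod]
    refine Finset.prod_eq_zero (Finset.mem_univ j) ?_
    rw [map_sub, map_one, map_pow, sub_eq_zero]
    have h1 := congrArg Subtype.val (FiniteField.pow_card_sub_one_eq_one
      (⟨_, hval j x⟩ : F₀) (fun e => hj (congrArg Subtype.val e)))
    rw [hq] at h1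
    simpa using h1.symm

end CfsgLib.UnitExt
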