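import Cfsg.Agent.Lib.Classical.UnitExtField.Setup
import Cfsg.Agent.Lib.Classical.UnitExtField.RatZero

/-!
A moved line over the extension leads to two parametrised images with a pairing of rank one.
-/

set_option autoImplicit false
set_option linter.unusedSectionVars false

namespace CfsgLib.UnitExt

open Module Matrix Cfsg
open CfsgLib.ClassicalAut (Unitary.Conj)
open CfsgLib.Classical.Herm

variable {F : Type*} [Field F] [Finite F] {q n : ℕ} {K : Unitary.Conj F q}
variable {L : Type*} [Field L] [Finite L] [Algebra F L] [Module L (Fin n → F)]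
  [IsScalarTower F L (Fin n → F)]
variable {σ : L ≃+* L} {t : L →ₗ[F] F} {R : (L →ₗ[F] F) →ₗ[F] L}

local notation "H" => hermForm n F q
local notation "V" => (Fin n → F)
local notation "G" => SU n F q

variable (hS : Setup K σ t R n)
include hS

/-- The fixed field of the involution of `F`. -/
theorem card_fixedField :
    Nat.card (RingHom.eqLocusField (K.bar : F →+* F) (RingHom.id F)) = q := by
  classical
  cases nonempty_fintype F
  have h := card_fixed K
  rw [Nat.card_eq_fintype_card, Fintype.card_subtype] at h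
  have e : (Finset.univ.filter fun x : F => K.bar x = x) =
      insert 0 (Finset.univ.filter fun x : F => K.bar x = x ∧ x ≠ 0) := by
    ext x
    simp only [Finset.mem_filter, Finset.mem_univ, true_and, Finset.mem_insert]
    rcases eq_or_ne x 0 with rfl | hx <;> simp_all
  have h2 : Nat.card {x : F // K.bar x = x} = q := by
    rw [Nat.card_eq_fintype_card, Fintype.card_subtype, e, Finset.card_insert_of_notMem (by simp), h]
    have := K.two_le
    omega
  exact h2

theorem sigma_alg_mul (c : F) (z : L) : σ (algebraMap F L c * z) = algebraMap F L (K.bar c) * σ z := by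
  rw [map_mul, hS.semi]

theorem t_alg_mul (c : F) (z : L) : t (algebraMap F L c * z) = c * t z := by
  rw [← Algebra.smul_def, map_smul, smul_eq_mul]

/-- The real elements span. -/
theorem span_real : Submodule.span F {x : L | σ x = x} = ⊤ := by
  obtain ⟨y, hy⟩ := K.exists_moved
  refine eq_top_iff.2 fun z _ => ?_
  set W := Submodule.span F {x : L | σ x = x}
  have h1 : z + σ z ∈ W :=
    Submodule.subset_span (show σ (z + σ z) = z + σ z by rw [map_add, hS.inv, add_comm])
  have h2 : y • z + σ (y • z) ∈ W :=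
    Submodule.subset_span (show σ (y • z + σ (y • z)) = y • z + σ (y • z) by
      rw [map_add, hS.inv, add_comm])
  have h3 : (y - K.bar y) • z = (y • z + σ (y • z)) - K.bar y • (z + σ z) := by
    rw [sigma_smul hS, sub_smul, smul_add]; abel
  have h4 := W.smul_mem (y - K.bar y)⁻¹ (W.sub_mem h2 (W.smul_mem (K.bar y) h1))
  rwa [← h3, smul_smul, inv_mul_cancel₀ (sub_ne_zero.2 (Ne.symm hy)), one_smul] at h4

theorem eq_zero_of_real {z : L} (h : ∀ u : L, σ u = u → t (u * z) = 0) : z = 0 := by
  refine t_ext hS fun μ => ?_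
  rw [mul_zero, map_zero]
  have hμ : μ ∈ Submodule.span F {x : L | σ x = x} := by rw [span_real hS]; exact Submodule.mem_top
  induction hμ using Submodule.span_induction with
  | mem x hx => exact h x hx
  | zero => rw [zero_mul, map_zero]
  | add x y _ _ hx hy => rw [add_mul, map_add, hx, hy, add_zero]
  | smul c x _ hx => rw [smul_mul_assoc, map_smul, hx, smul_zero]

/-- A real element killed by two symmetric functionals. -/
theorem exists_real_ker {n₁ n₂ : L} (h₁ : σ n₁ = n₁) (h₂ : σ n₂ = n₂) :
    ∃ u : L, u ≠ 0 ∧ σ u = u ∧ t (u * n₁) = 0 ∧ t (u * n₂) = 0 := by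
  set f : L →ₗ[F] F × F := (t ∘ₗ LinearMap.mulRight F n₁).prod (t ∘ₗ LinearMap.mulRight F n₂)
  have hne : LinearMap.ker f ≠ ⊥ := by
    intro e
    have h1 := LinearMap.finrank_le_finrank_of_injective (LinearMap.ker_eq_bot.1 e)
    rw [Module.finrank_prod, Module.finrank_self] at h1
    have := hS.prime.two_le
    obtain ⟨s, hs⟩ := hS.odd
    omega
  obtain ⟨z, hz, hz0⟩ := Submodule.exists_mem_ne_zero_of_ne_bot hne
  rw [LinearMap.mem_ker] at hz
  have e1 : ∀ z : L, t (z * n₁) = 0 → t (σ z * n₁) = 0 := fun z h => by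
    rw [← h₁, ← map_mul, hS.t_bar, h, map_zero]
  have e2 : ∀ z : L, t (z * n₂) = 0 → t (σ z * n₂) = 0 := fun z h => by
    rw [← h₂, ← map_mul, hS.t_bar, h, map_zero]
  have z1 : t (z * n₁) = 0 := congrArg Prod.fst hz
  have z2 : t (z * n₂) = 0 := congrArg Prod.snd hz
  obtain ⟨y, hy⟩ := K.exists_moved
  by_cases h : z + σ z = 0
  · refine ⟨y • z + σ (y • z), fun e => hz0 ?_, by rw [map_add, hS.inv, add_comm], ?_, ?_⟩
    · rw [sigma_smul hS, eq_neg_of_add_eq_zero_right h, smul_neg, ← sub_eq_add_neg, ← sub_smul] at e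
      exact (smul_eq_zero.1 e).resolve_left (sub_ne_zero.2 (Ne.symm hy))
    · rw [sigma_smul hS, add_mul, map_add, smul_mul_assoc, smul_mul_assoc, map_smul, map_smul, z1,
        e1 z z1, smul_zero, smul_zero, add_zero]
    · rw [sigma_smul hS, add_mul, map_add, smul_mul_assoc, smul_mul_assoc, map_smul, map_smul, z2,
        e2 z z2, smul_zero, smul_zero, add_zero]
  · exact ⟨z + σ z, h, by rw [map_add, hS.inv, add_comm], by rw [add_mul, map_add, z1, e1 z z1, add_zero],
      by rw [add_mul, map_add, z2, e2 z z2, add_zero]⟩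

/-- A real element not killed by a non-zero functional. -/
theorem exists_real_ne {z : L} (hz : z ≠ 0) : ∃ u : L, σ u = u ∧ t (u * z) ≠ 0 := by
  by_contra h
  push Not at h
  exact hz (eq_zero_of_real hS h)

omit hS in
/-- Elements linear over `L` lie in `M`. -/
def Over (L : Type*) [Field L] [Module L (Fin n → F)] (M : Subgroup (SU n F q)) : Prop :=
  ∀ g : SU n F q, (∀ (k : L) x, app g (k • x) = k • app g x) → g ∈ M

/-- A parametrised image of an isotropic line over `L` under an element of `M`. -/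
def Im (M : Subgroup (SU n F q)) (φ : L →ₗ[F] V) : Prop :=
  ∃ g ∈ M, ∃ a : V, a ≠ 0 ∧ hh hS a a = 0 ∧ ∀ μ : L, φ μ = app g (μ • a)

variable {M : Subgroup (SU n F q)}

theorem im_line {a : V} (ha0 : a ≠ 0) (ha : hh hS a a = 0) : Im hS M (line a) :=
  ⟨1, M.one_mem, a, ha0, ha, fun μ => (one_mulVec _).symm⟩

theorem Im.comp {φ : L →ₗ[F] V} (h : Im hS M φ) {g : G} (hg : g ∈ M) :
    Im hS M ((lin g).comp φ) := by
  obtain ⟨g0, hg0, a, ha0, ha, e⟩ := h
  refine ⟨g * g0, M.mul_mem hg hg0, a, ha0, ha, fun μ => ?_⟩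
  rw [LinearMap.comp_apply, e, app_mul]
  rfl

theorem Im.iso {φ : L →ₗ[F] V} (h : Im hS M φ) (μ ν : L) : H (φ μ) (φ ν) = 0 := by
  obtain ⟨g, -, a, -, ha, e⟩ := h
  rw [e, e, h_app, h_line_iso hS ha]

variable (hM : Over L M)
include hM

theorem Im.root {φ : L →ₗ[F] V} (h : Im hS M φ) {lam : L} (hl : σ lam = -lam) :
    ∃ g ∈ M, ∀ x, app g x = x + φ (lam * zeta hS φ x) := by
  obtain ⟨g, hg, a, -, ha, e⟩ := h
  obtain ⟨T, hT, hTl⟩ := exists_root hS ha hl
  refine ⟨g * T * g⁻¹, M.mul_mem (M.mul_mem hg (hM T hTl)) (M.inv_mem hg), fun x => ?_⟩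
  have hz : zeta hS φ x = hh hS (app g⁻¹ x) a := zeta_eq hS fun μ => by
    rw [hh_spec, e, ← h_app g, app_inv']
  rw [app_mul, app_mul, hT, app_add, app_inv', e, hz]

omit hM in
theorem zeta_comp_spec (φ ψ : L →ₗ[F] V) (μ ν : L) :
    t (ν * (zeta hS φ ∘ₗ ψ) μ) = H (ψ μ) (φ (σ ν)) := zeta_spec hS φ (ψ μ) ν

omit hM in
/-- A non-zero element with a degenerate form on a subspace. -/
theorem exists_singular {e : ℕ} (l : Fin e → L) (hl : LinearIndependent F l) (he : 2 ≤ e)
    (her : e < finrank F L) :
    ∃ ν : L, σ ν = ν ∧ (∃ i j, t (ν * (l i * σ (l j))) ≠ 0) ∧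
      ∃ z0 ∈ Submodule.span F (Set.range l), z0 ≠ 0 ∧ ∀ j, t (ν * (z0 * σ (l j))) = 0 := by
  classical
  set r := finrank F L
  let f : L →ₗ[F] (Fin e → Fin e → F) :=
    LinearMap.pi fun i => LinearMap.pi fun j => t ∘ₗ LinearMap.mulRight F (l i * σ (l j))
  set Z := LinearMap.ker f with hZ
  have hZm : ∀ κ, κ ∈ Z ↔ ∀ i j, t (κ * (l i * σ (l j))) = 0 := fun κ => by
    rw [hZ, LinearMap.mem_ker]
    exact ⟨fun h i j => congrFun (congrFun h i) j, fun h => funext fun i => funext fun j => h i j⟩
  let gW : L →ₗ[F] (Fin e → F) := LinearMap.pi fun j => t ∘ₗ LinearMap.mulRight F (σ (l j))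
  set P := LinearMap.ker gW with hP
  have hPm : ∀ y, y ∈ P ↔ ∀ j, t (y * σ (l j)) = 0 := fun y => by
    rw [hP, LinearMap.mem_ker]
    exact ⟨fun h j => congrFun h j, fun h => funext fun j => h j⟩
  have hsurj : LinearMap.range gW = ⊤ := by
    by_contra hne
    obtain ⟨φ, hφ0, hφ⟩ :=
      Submodule.exists_dual_map_eq_bot_of_lt_top (lt_top_iff_ne_top.2 hne) inferInstance
    have hker : ∀ y, φ (gW y) = 0 := fun y => by
      have : φ (gW y) ∈ (LinearMap.range gW).map φ := Submodule.mem_map_of_mem (LinearMap.mem_range_self _ y)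
      rw [hφ] at this
      exact (Submodule.mem_bot _).1 this
    have h0 : ∑ j, φ (Pi.single j 1) • σ (l j) = 0 := t_ext hS fun μ => by
      rw [mul_zero, map_zero, Finset.mul_sum, map_sum, ← hker μ]
      conv_rhs => rw [pi_eq_sum_univ' (gW μ), map_sum]
      refine Finset.sum_congr rfl fun j _ => ?_
      rw [mul_smul_comm, map_smul, map_smul, smul_eq_mul, smul_eq_mul, mul_comm]
      rfl
    have h1 : ∑ j, K.bar (φ (Pi.single j 1)) • l j = 0 := by
      have := congrArg σ h0
      rw [map_sum, map_zero] at this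
      simpa only [sigma_smul hS, hS.inv] using this
    refine hφ0 (LinearMap.ext fun y => ?_)
    rw [pi_eq_sum_univ' y, map_sum]
    refine (Finset.sum_eq_zero fun j _ => ?_).trans rfl
    rw [map_smul, (map_eq_zero_iff _ K.bar.injective).1 (Fintype.linearIndependent_iff.1 hl _ h1 j),
      smul_zero]
  have hPd : finrank F P + e = r := by
    have h1 := LinearMap.finrank_range_add_finrank_ker gW
    rw [hsurj, finrank_top, Module.finrank_fin_fun, ← hP] at h1
    omega
  have hzl : ∀ i, l i ≠ 0 := fun i => hl.ne_zero i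
  have hmap : ∀ i, ∀ κ ∈ Z, κ * l i ∈ P := fun i κ hκ => (hPm _).2 fun j => by
    rw [mul_assoc]; exact (hZm κ).1 hκ i j
  have hZd : finrank F Z < finrank F P := by
    by_contra hge
    push Not at hge
    have hall : ∀ i, ∀ y ∈ P, ∃ κ ∈ Z, κ * l i = y := by
      intro i
      have hinj : Function.Injective (LinearMap.mulRight F (l i)) := mul_left_injective₀ (hzl i)
      have h1 : Z.map (LinearMap.mulRight F (l i)) = P := by
        refine Submodule.eq_of_le_of_finrank_le (Submodule.map_le_iff_le_comap.2 fun κ hκ => hmap i κ hκ) ?_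
        rw [← (Submodule.equivMapOfInjective _ hinj Z).finrank_eq]
        exact hge
      intro y hy
      rw [← h1] at hy
      obtain ⟨κ, hκ, rfl⟩ := hy
      exact ⟨κ, hκ, rfl⟩
    let i0 : Fin e := ⟨0, by omega⟩
    let S : Subalgebra F L :=
      { carrier := {k | ∀ y ∈ P, k * y ∈ P}
        mul_mem' := fun {a b} ha hb y hy => by rw [mul_assoc]; exact ha _ (hb y hy)
        add_mem' := fun {a b} ha hb y hy => by rw [add_mul]; exact P.add_mem (ha y hy) (hb y hy)
        algebraMap_mem' := fun c y hy => by rw [← Algebra.smul_def]; exact P.smul_mem c hy }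
    have hS0 : ∀ i, l i / l i0 ∈ S := fun i y hy => by
      obtain ⟨κ, hκ, rfl⟩ := hall i0 y hy
      rw [show l i / l i0 * (κ * l i0) = κ * l i by field_simp [hzl i0]]
      exact hmap i κ hκ
    haveI := Subalgebra.isSimpleOrder_of_finrank_prime F L hS.prime
    rcases eq_bot_or_eq_top S with h | h
    · let i1 : Fin e := ⟨1, by omega⟩
      have h1 := hS0 i1
      rw [h, Algebra.mem_bot] at h1
      obtain ⟨c, hc⟩ := h1
      have h2 := Fintype.linearIndependent_iff.1 hl
        (Pi.single i1 1 + Pi.single i0 (-c)) ?_ i1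
      · simp [i0, i1, Fin.ext_iff] at h2
      · simp only [Pi.add_apply, add_smul, Finset.sum_add_distrib]
        rw [Finset.sum_eq_single i1 (fun b _ hb => by simp [hb]) (by simp),
          Finset.sum_eq_single i0 (fun b _ hb => by simp [hb]) (by simp)]
        simp only [Pi.single_eq_same, one_smul, neg_smul]
        rw [Algebra.smul_def, hc, div_mul_cancel₀ _ (hzl i0), add_neg_cancel]
    · have hne : P ≠ ⊥ := fun e => by rw [e, finrank_bot] at hPd; omega
      obtain ⟨y, hy, hy0⟩ := Submodule.exists_mem_ne_zero_of_ne_bot hne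
      have htop : P = ⊤ := eq_top_iff.2 fun x _ => by
        have h1 : x / y ∈ S := h ▸ Algebra.mem_top
        have := h1 y hy
        rwa [div_mul_cancel₀ _ hy0] at this
      rw [htop, finrank_top] at hPd
      omega
  -- real elements spanning a complement of `Z`
  have hspan : Submodule.span F (Z.mkQ '' {x : L | σ x = x}) = ⊤ := by
    rw [← Submodule.map_span, span_real hS, Submodule.map_top, Submodule.range_mkQ]
  obtain ⟨b, hb, hbspan, hbli⟩ := exists_linearIndependent F (Z.mkQ '' {x : L | σ x = x})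
  haveI : Finite (L ⧸ Z) := Finite.of_surjective _ Z.mkQ_surjective
  haveI := Fintype.ofFinite b
  have hbc : e < Fintype.card b := by
    rw [← finrank_span_eq_card hbli, Subtype.range_coe_subtype, Set.setOf_mem_eq, hbspan, hspan,
      finrank_top]
    have := Submodule.finrank_quotient_add_finrank Z
    omega
  choose u hu hue using fun x : b => hb x.2
  let N : b → Matrix (Fin e) (Fin e) F := fun d => Matrix.of fun i j => t (u d * (l i * σ (l j)))
  let p : MvPolynomial b F :=
    (Matrix.of fun i j => ∑ d, MvPolynomial.C (N d i j) * MvPolynomial.X d).det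
  have heval : ∀ x : b → F, MvPolynomial.eval x p =
      (Matrix.of fun i j => t ((∑ d, x d • u d) * (l i * σ (l j)))).det := by
    intro x
    rw [show p = _ from rfl, RingHom.map_det]
    congr 1
    ext i j
    simp only [RingHom.mapMatrix_apply, Matrix.map_apply, Matrix.of_apply, map_sum, map_mul,
      MvPolynomial.eval_C, MvPolynomial.eval_X, Finset.sum_mul, smul_mul_assoc, map_smul, smul_eq_mul, N]
    exact Finset.sum_congr rfl fun d _ => mul_comm _ _
  have hdeg : p.totalDegree ≤ e := by
    simp only [p, Matrix.det_apply]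
    refine MvPolynomial.totalDegree_finsetSum_le fun π _ => (MvPolynomial.totalDegree_smul_le _ _).trans ?_
    refine (MvPolynomial.totalDegree_finset_prod _ _).trans ?_
    refine (Finset.sum_le_card_nsmul Finset.univ _ 1 fun i _ => ?_).trans ?_
    · refine MvPolynomial.totalDegree_finsetSum_le fun d _ => (MvPolynomial.totalDegree_mul _ _).trans ?_
      rw [MvPolynomial.totalDegree_C, MvPolynomial.totalDegree_X]
    · rw [Finset.card_univ, Fintype.card_fin, smul_eq_mul, mul_one]
  set F₀ := RingHom.eqLocusField (K.bar : F →+* F) (RingHom.id F) with hF₀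
  obtain ⟨x, hx0, hx⟩ := exists_rat_zero F₀ (card_fixedField hS) (fun _ : Fin 1 => p) (fun _ => hdeg)
    (by omega) (fun _ x => by
      rw [heval]
      show K.bar _ = _
      rw [RingEquiv.map_det, ← Matrix.det_transpose]
      congr 1
      ext i j
      simp only [Matrix.transpose_apply, RingEquiv.mapMatrix_apply, Matrix.map_apply, Matrix.of_apply]
      rw [← hS.t_bar, map_mul σ, map_mul σ, map_sum σ, hS.inv, mul_comm (σ (l j))]
      congr 2
      refine Finset.sum_congr rfl fun d _ => ?_
      rw [sigma_smul hS, hu d, show K.bar (x d : F) = x d from (x d).2])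
    (fun _ => by
      haveI : Nonempty (Fin e) := ⟨⟨0, by omega⟩⟩
      rw [heval]
      simp only [zero_smul, Finset.sum_const_zero, zero_mul, map_zero]
      exact Matrix.det_zero)
  have hx' := hx 0
  rw [heval] at hx'
  set ν := ∑ d, (x d : F) • u d with hν
  refine ⟨ν, ?_, ?_, ?_⟩
  · rw [hν, map_sum]
    refine Finset.sum_congr rfl fun d _ => ?_
    rw [sigma_smul hS, hu d, show K.bar (x d : F) = x d from (x d).2]
  · by_contra hc
    push Not at hc
    have hνZ : ν ∈ Z := (hZm ν).2 hc
    have h1 : ∑ d, (x d : F) • (d : L ⧸ Z) = 0 := by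
      have : Z.mkQ ν = 0 := by rwa [Submodule.mkQ_apply, Submodule.Quotient.mk_eq_zero]
      rw [hν, map_sum] at this
      simpa only [map_smul, hue] using this
    exact hx0 (funext fun d => Subtype.ext (Fintype.linearIndependent_iff.1 hbli _ h1 d))
  · clear_value ν
    obtain ⟨c, hc0, hc⟩ := Matrix.exists_vecMul_eq_zero_iff.2 hx'
    refine ⟨∑ i, c i • l i, Submodule.sum_mem _ fun i _ => Submodule.smul_mem _ _
      (Submodule.subset_span (Set.mem_range_self i)), fun e0 => hc0 (funext
        (Fintype.linearIndependent_iff.1 hl c e0)), fun j => ?_⟩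
    have h1 := congrFun hc j
    rw [Pi.zero_apply, Matrix.vecMul, dotProduct] at h1
    rw [Finset.sum_mul, Finset.mul_sum, map_sum, ← h1]
    refine Finset.sum_congr rfl fun i _ => ?_
    rw [smul_mul_assoc, mul_smul_comm, map_smul, smul_eq_mul, Matrix.of_apply]

/-- The rank of a pairing can be lowered to one. -/
theorem exists_rank_one {φ ψ : L →ₗ[F] V} (hφ : Im hS M φ) (hψ : Im hS M ψ)
    (h0 : zeta hS φ ∘ₗ ψ ≠ 0)
    (hlt : finrank F (LinearMap.range (zeta hS φ ∘ₗ ψ)) < finrank F L) :
    ∃ φ ψ : L →ₗ[F] V, Im hS M φ ∧ Im hS M ψ ∧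
      finrank F (LinearMap.range (zeta hS φ ∘ₗ ψ)) = 1 := by
  classical
  induction he : finrank F (LinearMap.range (zeta hS φ ∘ₗ ψ)) using Nat.strong_induction_on
    generalizing φ ψ with
  | h e ih => ?_
  set P := zeta hS φ ∘ₗ ψ with hP
  have hbot : LinearMap.range P ≠ ⊥ := fun e => h0 (LinearMap.range_eq_bot.1 e)
  have hpos : 0 < e := by
    rw [← he]; exact Submodule.one_le_finrank_iff.2 hbot
  by_cases h1 : e = 1
  · exact ⟨φ, ψ, hφ, hψ, he.trans h1⟩
  let bb := Module.finBasisOfFinrankEq F (LinearMap.range P) he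
  let l : Fin e → L := fun i => (bb i : L)
  have hl : LinearIndependent F l :=
    bb.linearIndependent.map' (LinearMap.range P).subtype (Submodule.ker_subtype _)
  obtain ⟨ν, hν, ⟨i, j, hij⟩, z0, hz0, hz00, hker⟩ :=
    exists_singular hS l hl (by omega) (by omega)
  have hrange : ∀ z ∈ LinearMap.range P, ∃ c : Fin e → F, z = ∑ i, c i • l i := fun z hz =>
    ⟨fun i => bb.repr ⟨z, hz⟩ i, by
      have := congrArg Subtype.val (bb.sum_repr ⟨z, hz⟩)
      rw [Submodule.coe_sum] at this
      exact this.symm⟩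
  have hz0P : z0 ∈ LinearMap.range P :=
    Submodule.span_le.2 (by rintro _ ⟨i, rfl⟩; exact (bb i).2) hz0
  obtain ⟨θ, hθ0, hθ⟩ := exists_skew K
  set lam := algebraMap F L θ * ν with hlam
  have hlskew : σ lam = -lam := by
    rw [hlam, sigma_alg_mul hS, hν, eq_neg_of_add_eq_zero_right hθ, map_neg, neg_mul]
  obtain ⟨g, hg, hgx⟩ := Im.root hS hM hφ hlskew
  have hψ' := hψ.comp hS hg
  set ψ' := (lin g).comp ψ with hψ'd
  have hQ : ∀ μ κ, t (κ * (zeta hS ψ ∘ₗ ψ') μ) = θ * t (ν * (P μ * σ (P (σ κ)))) := by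
    intro μ κ
    rw [zeta_comp_spec hS, hψ'd, LinearMap.comp_apply]
    show H (app g (ψ μ)) (ψ (σ κ)) = _
    rw [hgx, h_add_left K, Im.iso hS hψ, zero_add, h_swap K (ψ (σ κ))]
    have e := zeta_spec hS φ (ψ (σ κ)) (σ (lam * zeta hS φ (ψ μ)))
    rw [hS.inv] at e
    rw [← e, ← hS.t_bar, map_mul σ (σ _), hS.inv, ← t_alg_mul hS, hlam]
    congr 1
    show algebraMap F L θ * ν * P μ * σ (P (σ κ)) = _
    ring
  obtain ⟨μi, hμi⟩ := (bb i).2
  obtain ⟨μj, hμj⟩ := (bb j).2
  have hQ0 : zeta hS ψ ∘ₗ ψ' ≠ 0 := by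
    intro e0
    have h2 := hQ μi (σ μj)
    rw [e0, LinearMap.zero_apply, mul_zero, map_zero, hS.inv, hμi, hμj] at h2
    exact hij ((mul_eq_zero.1 h2.symm).resolve_left hθ0)
  obtain ⟨μ0, hμ0⟩ := hz0P
  have hkill : ∀ z ∈ LinearMap.range P, t (ν * (z0 * σ z)) = 0 := fun z hz => by
    obtain ⟨c, rfl⟩ := hrange z hz
    rw [map_sum, Finset.mul_sum, Finset.mul_sum, map_sum]
    refine Finset.sum_eq_zero fun k _ => ?_
    rw [sigma_smul hS, mul_smul_comm, mul_smul_comm, map_smul, hker k, smul_zero]
  have hker' : LinearMap.ker P < LinearMap.ker (zeta hS ψ ∘ₗ ψ') := by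
    refine lt_of_le_of_ne (fun μ hμ => ?_) fun e1 => ?_
    · rw [LinearMap.mem_ker] at hμ ⊢
      refine t_ext hS fun κ => ?_
      rw [hQ, hμ, zero_mul, mul_zero, map_zero, mul_zero, mul_zero, map_zero]
    · have h2 : μ0 ∈ LinearMap.ker (zeta hS ψ ∘ₗ ψ') := by
        rw [LinearMap.mem_ker]
        refine t_ext hS fun κ => ?_
        rw [hQ, hμ0, hkill _ (LinearMap.mem_range_self _ _), mul_zero, mul_zero, map_zero]
      rw [← e1, LinearMap.mem_ker, hμ0] at h2
      exact hz00 h2
  have hlt' : finrank F (LinearMap.range (zeta hS ψ ∘ₗ ψ')) < e := by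
    have a1 := LinearMap.finrank_range_add_finrank_ker P
    have a2 := LinearMap.finrank_range_add_finrank_ker (zeta hS ψ ∘ₗ ψ')
    have a3 := Submodule.finrank_lt_finrank_of_lt hker'
    omega
  exact ih _ hlt' hψ hψ' hQ0 (by omega) rfl

/-- A moved isotropic line gives a pairing of rank one. -/
theorem exists_pair (h2r : n = 2 * finrank F L) {g : G} (hg : g ∈ M) {a : V} (ha : hh hS a a = 0) {μ₀ : L}
    (hmove : ∀ k : L, app g (μ₀ • a) ≠ k • app g a) :
    ∃ φ ψ : L →ₗ[F] V, Im hS M φ ∧ Im hS M ψ ∧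
      finrank F (LinearMap.range (zeta hS φ ∘ₗ ψ)) = 1 := by
  classical
  have ha0 : a ≠ 0 := fun e => hmove 0 (by
    rw [e, smul_zero, zero_smul]; exact mulVec_zero _)
  set φ : L →ₗ[F] V := (lin g).comp (line a) with hφd
  have hφ : Im hS M φ := (im_line hS ha0 ha).comp hS hg
  -- an isotropic vector in the image
  obtain ⟨b, hbsub, hbspan, hbli⟩ := exists_linearIndependent F {x : L | σ x = x}
  haveI := Fintype.ofFinite b
  have hbc : Fintype.card b = finrank F L := by
    rw [← finrank_span_eq_card hbli, Subtype.range_coe_subtype, Set.setOf_mem_eq, hbspan, span_real hS,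
      finrank_top]
  obtain ⟨b0, hb0, hb0span⟩ : ∃ b0 : b, True ∧ Submodule.span F
      (insert (1 : L) ((fun x : b => (x : L)) '' {x | x ≠ b0})) = ⊤ := by
    have h1 : (1 : L) ∈ Submodule.span F b := by rw [hbspan, span_real hS]; exact Submodule.mem_top
    obtain ⟨b0, hb0⟩ : ∃ b0 : b, (1 : L) ∉ Submodule.span F ((fun x : b => (x : L)) '' {x | x ≠ b0}) := by
      by_contra hall
      push Not at hall
      have key : ∀ c : b →₀ F, Finsupp.linearCombination F (fun x : b => (x : L)) c = 1 →
          ∀ d : b, c d = 0 := fun c hc d => by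
        obtain ⟨c', hc', e⟩ := (Finsupp.mem_span_image_iff_linearCombination F).1 (hall d)
        have := hbli.finsuppLinearCombination_injective (hc.trans e.symm)
        rw [this]
        by_contra hne
        exact (hc' (Finsupp.mem_support_iff.2 hne)) rfl
      have hr : (1 : L) ∈ Submodule.span F (Set.range fun x : b => (x : L)) := by
        rwa [Subtype.range_coe]
      obtain ⟨c, hc⟩ := (Finsupp.mem_span_range_iff_exists_finsupp).1 hr
      have hc' : Finsupp.linearCombination F (fun x : b => (x : L)) c = 1 := by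
        rw [Finsupp.linearCombination_apply]; exact hc
      have : c = 0 := Finsupp.ext fun d => key c hc' d
      rw [this, map_zero] at hc'
      exact zero_ne_one hc'
    refine ⟨b0, trivial, eq_top_iff.2 ?_⟩
    rw [← span_real hS, ← hbspan, Submodule.span_le]
    intro x hx
    by_cases he : (⟨x, hx⟩ : b) = b0
    · subst he
      have hins : (1 : L) ∈ Submodule.span F (insert x ((fun y : b => (y : L)) '' {y | y ≠ ⟨x, hx⟩})) := by
        refine Submodule.span_mono ?_ h1
        intro y hy
        by_cases hyx : y = x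
        · exact Or.inl hyx
        · exact Or.inr ⟨⟨y, hy⟩, fun e => hyx (congrArg Subtype.val e), rfl⟩
      exact mem_span_insert_exchange hins hb0
    · exact Submodule.subset_span (Or.inr ⟨⟨x, hx⟩, he, rfl⟩)
  set J := {x : b // x ≠ b0}
  have hJ : Fintype.card J = finrank F L - 1 := by
    rw [Fintype.card_subtype_compl, Fintype.card_subtype_eq, hbc]
  let ι := Bool × b
  obtain ⟨y, hy⟩ := K.exists_moved
  let cf : ι → L := fun d => (if d.1 then (y • (1 : L)) else 1) * (d.2 : L)
  let f : Fin (Fintype.card J) → MvPolynomial ι F := fun j => ∑ d, ∑ d',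
    MvPolynomial.C (H (((Fintype.equivFin J).symm j).1.1 • φ (cf d)) (φ (cf d'))) *
      (MvPolynomial.X d * MvPolynomial.X d')
  set F₀ := RingHom.eqLocusField (K.bar : F →+* F) (RingHom.id F)
  have hfix : ∀ (x : ι → F₀) d, K.bar (x d : F) = x d := fun x d => (x d).2
  have hval : ∀ j (x : ι → F₀), MvPolynomial.eval (fun i => (x i : F)) (f j) =
      H (((Fintype.equivFin J).symm j).1.1 • φ (∑ d, (x d : F) • cf d)) (φ (∑ d, (x d : F) • cf d)) := by
    intro j x
    simp only [f, map_sum, map_mul, MvPolynomial.eval_C, MvPolynomial.eval_X, Finset.smul_sum,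
      map_smul, smul_comm ((Fintype.equivFin J).symm j).1.1]
    rw [Rat.h_sum_left K]
    refine Finset.sum_congr rfl fun d _ => ?_
    rw [Rat.h_sum_right K]
    refine Finset.sum_congr rfl fun d' _ => ?_
    rw [h_smul_left K, h_smul_right K, hfix]
    ring
  obtain ⟨x, hx0, hx⟩ := exists_rat_zero F₀ (card_fixedField hS) f (d := 2)
    (fun j => by
      refine MvPolynomial.totalDegree_finsetSum_le fun d _ =>
        MvPolynomial.totalDegree_finsetSum_le fun d' _ => ?_
      refine (MvPolynomial.totalDegree_mul _ _).trans ?_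
      rw [MvPolynomial.totalDegree_C, zero_add]
      refine (MvPolynomial.totalDegree_mul _ _).trans ?_
      rw [MvPolynomial.totalDegree_X, MvPolynomial.totalDegree_X])
    (by
      rw [Fintype.card_prod, Fintype.card_bool, hbc, hJ]
      have := hS.prime.two_le
      omega)
    (fun j x => by
      rw [hval]
      show K.bar _ = _
      rw [← h_swap K, ← t_hh hS, ← t_hh hS, hh_smul_left, hh_smul_right]
      rw [show σ (((Fintype.equivFin J).symm j).1.1) = _ from hbsub ((Fintype.equivFin J).symm j).1.2]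
      rfl)
    (fun j => by simp [f])
  set μ₁ := ∑ d, (x d : F) • cf d with hμ₁
  have hμ₁0 : μ₁ ≠ 0 := by
    intro e
    rw [hμ₁, Fintype.sum_prod_type, Fintype.sum_bool] at e
    simp only [cf, if_pos, Bool.false_eq_true, if_false, one_mul, smul_mul_assoc, smul_smul,
      ← Finset.sum_add_distrib, ← add_smul] at e
    refine hx0 (funext fun d => ?_)
    have h1 := Fintype.linearIndependent_iff.1 hbli _ e d.2
    have h2 := congrArg K.bar h1
    rw [map_add, map_mul, map_zero, hfix, hfix] at h2
    have h3 : (x (true, d.2) : F) * (y - K.bar y) = 0 := by linear_combination h1 - h2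
    have ht : (x (true, d.2) : F) = 0 := (mul_eq_zero.1 h3).resolve_right (sub_ne_zero.2 (Ne.symm hy))
    rw [ht, zero_mul, zero_add] at h1
    obtain ⟨s, e'⟩ := d
    cases s
    · exact Subtype.ext h1
    · exact Subtype.ext ht
  set c := φ μ₁ with hc
  have hc0 : c ≠ 0 := fun e => hμ₁0 (by
    rw [hc, hφd, LinearMap.comp_apply, line_apply] at e
    have e' : μ₁ • a = 0 := app_injective g (e.trans (mulVec_zero _).symm)
    exact (smul_eq_zero.1 e').resolve_right ha0)
  have hcc : hh hS c c = 0 := by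
    refine eq_zero_of_real hS fun u hu => ?_
    rw [hh_spec, hu]
    have hkill : ∀ v ∈ (insert (1 : L) ((fun x : b => (x : L)) '' {x | x ≠ b0})), H (v • c) c = 0 := by
      rintro v (rfl | ⟨d, hd, rfl⟩)
      · rw [one_smul]; exact Im.iso hS hφ μ₁ μ₁
      · have := hx (Fintype.equivFin J ⟨d, hd⟩)
        rw [hval, Equiv.symm_apply_apply] at this
        exact this
    have hu' : u ∈ Submodule.span F (insert (1 : L) ((fun x : b => (x : L)) '' {x | x ≠ b0})) := by
      rw [hb0span]; exact Submodule.mem_top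
    rw [h_swap K (u • c) c]
    suffices H (u • c) c = 0 by rw [this, map_zero]
    clear hu
    induction hu' using Submodule.span_induction with
    | mem v hv => exact hkill v hv
    | zero => rw [zero_smul, h_zero_left K]
    | add v w _ _ hv hw => rw [add_smul, h_add_left K, hv, hw, add_zero]
    | smul s v _ hv => rw [smul_assoc, h_smul_left K, hv, mul_zero]
  have hz : ∀ μ, (zeta hS (line c) ∘ₗ φ) μ = hh hS (φ μ) c := fun μ => rfl
  refine exists_rank_one hS hM (im_line hS hc0 hcc) hφ (fun e => ?_) ?_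
  · have hin : ∀ μ, ∃ k : L, φ μ = k • c := fun μ =>
      mem_line_of_perp hS h2r hc0 hcc (by rw [← hz, e, LinearMap.zero_apply])
    obtain ⟨k1, hk1⟩ := hin 1
    obtain ⟨k0, hk0⟩ := hin μ₀
    have e1 : φ 1 = app g a := by
      rw [hφd, LinearMap.comp_apply, line_apply, one_smul]; rfl
    have e0 : φ μ₀ = app g (μ₀ • a) := rfl
    have hk10 : k1 ≠ 0 := fun e => ha0 (app_injective g (by
      rw [← e1, hk1, e, zero_smul]; exact (mulVec_zero _).symm))
    refine hmove (k0 / k1) ?_
    rw [← e0, ← e1, hk0, hk1, smul_smul, div_mul_cancel₀ _ hk10]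
  · have b1 := LinearMap.finrank_range_add_finrank_ker (zeta hS (line c) ∘ₗ φ)
    have b2 : 1 ≤ finrank F (LinearMap.ker (zeta hS (line c) ∘ₗ φ)) :=
      Submodule.one_le_finrank_iff.2 fun e =>
        hμ₁0 ((Submodule.eq_bot_iff _).1 e μ₁ (by rw [LinearMap.mem_ker, hz]; exact hcc))
    omega

end CfsgLib.UnitExt
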