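import Cfsg.Agent.Lib.Classical.UnitarySubfieldOdd

/-!
An extension field of odd degree acting on a hermitian space of dimension at least two over it:
the form over the extension and the elements linear over it.
-/

set_option autoImplicit false
set_option linter.unusedSectionVars false

namespace CfsgLib.UnitExt

open Module Matrix Cfsg
open CfsgLib.ClassicalAut (Unitary.Conj)
open CfsgLib.Classical.Herm

variable {F : Type*} [Field F] [Finite F] {q n : ℕ} {K : Unitary.Conj F q}
variable {L : Type*} [Field L] [Finite L] [Algebra F L] [Module L (Fin n → F)]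
  [IsScalarTower F L (Fin n → F)]

/-- An extension closed under adjoints. -/
structure Setup (K : Unitary.Conj F q) (σ : L ≃+* L) (t : L →ₗ[F] F)
    (R : (L →ₗ[F] F) →ₗ[F] L) (n : ℕ) [Module L (Fin n → F)] : Prop where
  semi : ∀ c : F, σ (algebraMap F L c) = algebraMap F L (K.bar c)
  inv : ∀ x, σ (σ x) = x
  adj : ∀ (k : L) (x y : Fin n → F), hermForm n F q (k • x) y = hermForm n F q x (σ k • y)
  t_bar : ∀ x, t (σ x) = K.bar (t x)
  t_ne : t ≠ 0
  rep : ∀ (ℓ : L →ₗ[F] F) (μ : L), t (μ * R ℓ) = ℓ μ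
  prime : (finrank F L).Prime
  odd : Odd (finrank F L)
  dim : 2 * finrank F L ≤ n

variable {σ : L ≃+* L} {t : L →ₗ[F] F} {R : (L →ₗ[F] F) →ₗ[F] L}

local notation "H" => hermForm n F q
local notation "V" => (Fin n → F)
local notation "G" => SU n F q

variable (hS : Setup K σ t R n)
include hS

theorem sigma_smul (c : F) (μ : L) : σ (c • μ) = K.bar c • σ μ := by
  rw [Algebra.smul_def, Algebra.smul_def, map_mul, hS.semi]

/-- The functional of a vector against a parametrised subspace. -/
def func (φ : L →ₗ[F] V) (x : V) : L →ₗ[F] F where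
  toFun μ := H x (φ (σ μ))
  map_add' μ ν := by rw [map_add, map_add, h_add_right K]
  map_smul' c μ := by
    rw [sigma_smul hS, map_smul, h_smul_right K, K.bar_bar]
    rfl

/-- The coordinate dual to a parametrised subspace. -/
def zeta (φ : L →ₗ[F] V) : V →ₗ[F] L where
  toFun x := R (func hS φ x)
  map_add' x y := by
    rw [← map_add]
    exact congrArg R (LinearMap.ext fun μ => h_add_left K x y _)
  map_smul' c x := by
    rw [RingHom.id_apply, ← map_smul]
    exact congrArg R (LinearMap.ext fun μ => h_smul_left K c x _)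

theorem t_ext {z w : L} (h : ∀ μ : L, t (μ * z) = t (μ * w)) : z = w := by
  by_contra hne
  refine hS.t_ne (LinearMap.ext fun k => ?_)
  have := h (k * (z - w)⁻¹)
  have e : k * (z - w)⁻¹ * z - k * (z - w)⁻¹ * w = k := by
    rw [← mul_sub, inv_mul_cancel_right₀ (sub_ne_zero.2 hne)]
  rw [← e, map_sub, this, sub_self, LinearMap.zero_apply]

theorem zeta_spec (φ : L →ₗ[F] V) (x : V) (μ : L) : t (μ * zeta hS φ x) = H x (φ (σ μ)) :=
  hS.rep _ μ

theorem zeta_eq {φ : L →ₗ[F] V} {x : V} {z : L} (h : ∀ μ : L, t (μ * z) = H x (φ (σ μ))) :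
    zeta hS φ x = z :=
  t_ext hS fun μ => by rw [zeta_spec hS, h]

omit hS in
/-- The line of `a` over `L`, parametrised. -/
def line (a : V) : L →ₗ[F] V := (LinearMap.toSpanSingleton L V a).restrictScalars F

omit hS in
theorem line_apply (a : V) (μ : L) : line (L := L) a μ = μ • a := rfl

/-- The form over `L`. -/
def hh (x y : V) : L := zeta hS (line y) x

theorem hh_spec (x y : V) (μ : L) : t (μ * hh hS x y) = H x (σ μ • y) := zeta_spec hS _ x μ

theorem hh_spec' (x y : V) (μ : L) : t (σ μ * hh hS x y) = H x (μ • y) := by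
  rw [hh_spec, hS.inv]

theorem t_hh (x y : V) : t (hh hS x y) = H x y := by
  have := hh_spec hS x y 1
  rwa [one_mul, map_one, one_smul] at this

theorem hh_add_left (x y z : V) : hh hS (x + y) z = hh hS x z + hh hS y z := map_add _ x y

theorem hh_sub_left (x y z : V) : hh hS (x - y) z = hh hS x z - hh hS y z := map_sub _ x y

theorem hh_add_right (x y z : V) : hh hS x (y + z) = hh hS x y + hh hS x z :=
  t_ext hS fun μ => by rw [hh_spec, mul_add, map_add, hh_spec, hh_spec, smul_add, h_add_right K]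

theorem hh_sub_right (x y z : V) : hh hS x (y - z) = hh hS x y - hh hS x z :=
  t_ext hS fun μ => by rw [hh_spec, mul_sub, map_sub, hh_spec, hh_spec, smul_sub, h_sub_right K]

theorem hh_smul_left (k : L) (x y : V) : hh hS (k • x) y = k * hh hS x y :=
  t_ext hS fun μ => by
    rw [hh_spec, ← mul_assoc, hh_spec, hS.adj, smul_smul, map_mul, mul_comm (σ k)]

theorem hh_smul_right (k : L) (x y : V) : hh hS x (k • y) = σ k * hh hS x y :=
  t_ext hS fun μ => by rw [hh_spec, ← mul_assoc, hh_spec, map_mul, hS.inv, smul_smul]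

theorem hh_swap (x y : V) : hh hS y x = σ (hh hS x y) :=
  t_ext hS fun μ => by
    conv_rhs => rw [← hS.inv μ, ← map_mul, hS.t_bar, hh_spec hS, hS.inv, ← h_swap K x (μ • y), hS.adj]
    rw [hh_spec]

theorem hh_self (x : V) : σ (hh hS x x) = hh hS x x := (hh_swap hS x x).symm

theorem hh_zero_left (x : V) : hh hS 0 x = 0 := map_zero _

theorem hh_zero_right (x : V) : hh hS x 0 = 0 := by
  rw [hh_swap hS 0 x, hh_zero_left, map_zero]

theorem hh_zero_symm {x y : V} (h : hh hS x y = 0) : hh hS y x = 0 := by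
  rw [hh_swap hS x y, h, map_zero]

theorem hh_nondeg {x : V} (h : ∀ y, hh hS x y = 0) : x = 0 :=
  h_nondeg K fun y => by rw [← t_hh hS, h, map_zero]

theorem h_line_iso {a : V} (ha : hh hS a a = 0) (μ ν : L) : H (μ • a) (ν • a) = 0 := by
  rw [← t_hh hS, hh_smul_left, hh_smul_right, ha, mul_zero, mul_zero, map_zero]

/-- A partner of an isotropic vector. -/
theorem exists_partner {a : V} (ha0 : a ≠ 0) (ha : hh hS a a = 0) :
    ∃ d, hh hS d d = 0 ∧ hh hS a d = 1 ∧ hh hS d a = 1 := by
  obtain ⟨y, hy⟩ : ∃ y, hh hS a y ≠ 0 := by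
    by_contra h
    push Not at h
    exact ha0 (hh_nondeg hS h)
  set y' := σ (hh hS a y)⁻¹ • y with hy'
  have h1 : hh hS a y' = 1 := by
    rw [hy', hh_smul_right, hS.inv, inv_mul_cancel₀ hy]
  clear_value y'
  obtain ⟨τ, hτ⟩ := K.exists_trace
  obtain ⟨w, hw⟩ : ∃ w : F, w + K.bar w = 1 := ⟨τ / (τ + K.bar τ), by
    rw [map_div₀, map_add, K.bar_bar, add_comm (K.bar τ) τ, ← add_div, div_self hτ]⟩
  refine ⟨y' + (-(algebraMap F L w * hh hS y' y')) • a, ?_, ?_, ?_⟩
  · have h2 : hh hS y' a = 1 := by rw [hh_swap hS a y', h1, map_one]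
    have e : algebraMap F L w + σ (algebraMap F L w) = 1 := by
      rw [hS.semi, ← map_add, hw, map_one]
    simp only [hh_add_left, hh_add_right, hh_smul_left, hh_smul_right, ha, h1, h2, map_neg, map_mul,
      hh_self hS]
    linear_combination -(hh hS y' y') * e
  · rw [hh_add_right, hh_smul_right, ha, mul_zero, add_zero, h1]
  · rw [hh_add_left, hh_smul_left, ha, mul_zero, add_zero, hh_swap hS a y', h1, map_one]

/-- Coordinates with respect to a hyperbolic pair. -/
theorem decomp (h2r : n = 2 * finrank F L) {a d : V} (ha : hh hS a a = 0) (hd : hh hS d d = 0) (h : hh hS a d = 1) (x : V) :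
    x = hh hS x d • a + hh hS x a • d := by
  have h' : hh hS d a = 1 := by rw [hh_swap hS a d, h, map_one]
  let e : L × L →ₗ[F] V := (line a).coprod (line d)
  have hinj : Function.Injective e := by
    intro u v huv
    have e1 := congrArg (fun z => hh hS z d) huv
    have e2 := congrArg (fun z => hh hS z a) huv
    simp only [e, LinearMap.coprod_apply, line_apply, hh_add_left, hh_smul_left, ha, hd, h, h',
      mul_zero, mul_one, add_zero, zero_add] at e1 e2
    exact Prod.ext e1 e2
  have hfin : finrank F (L × L) = finrank F V := by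
    rw [Module.finrank_prod, Module.finrank_fin_fun, h2r, two_mul]
  obtain ⟨⟨u, v⟩, huv⟩ := (LinearMap.injective_iff_surjective_of_finrank_eq_finrank hfin).1 hinj x
  rw [← huv]
  simp only [e, LinearMap.coprod_apply, line_apply, hh_add_left, hh_smul_left, ha, hd, h, h',
    mul_zero, mul_one, add_zero, zero_add]

theorem mem_line_of_perp (h2r : n = 2 * finrank F L) {c x : V} (hc0 : c ≠ 0) (hc : hh hS c c = 0) (hx : hh hS x c = 0) :
    ∃ k : L, x = k • c := by
  obtain ⟨d, hd, hcd, -⟩ := exists_partner hS hc0 hc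
  exact ⟨_, by conv_lhs => rw [decomp hS h2r hc hd hcd x, hx, zero_smul, add_zero]⟩

omit hS in
include K in
/-- Isometries of determinant one as elements. -/
theorem exists_of_lin (T : V →ₗ[F] V) (hiso : ∀ x y, H (T x) (T y) = H x y)
    (hdet : LinearMap.det T = 1) : ∃ g : G, ∀ x, app g x = T x := by
  have hA : ∀ x, LinearMap.toMatrix' T *ᵥ x = T x := fun x => by
    rw [← Matrix.toLin'_apply, Matrix.toLin'_toMatrix']
  refine ⟨⟨⟨LinearMap.toMatrix' T, by rw [LinearMap.det_toMatrix']; exact hdet⟩, fun x y => ?_⟩, hA⟩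
  show hermForm n F q (LinearMap.toMatrix' T *ᵥ x) (LinearMap.toMatrix' T *ᵥ y) = hermForm n F q x y
  rw [hA, hA, hiso]

omit hS in
include K in
theorem det_one_add {N : V →ₗ[F] V} (hN : ∀ x, N (N x) = 0) : LinearMap.det (LinearMap.id + N) = 1 := by
  obtain ⟨p, hp⟩ := CharP.exists F
  haveI : Fact p.Prime := ⟨CharP.char_is_prime F p⟩
  haveI : Nontrivial F := inferInstance
  rw [← LinearMap.det_toMatrix', map_add, LinearMap.toMatrix'_id]
  set A := LinearMap.toMatrix' N
  have hA : A * A = 0 := by
    rw [← LinearMap.toMatrix'_comp, show N ∘ₗ N = 0 from LinearMap.ext hN, map_zero]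
  rcases Nat.eq_zero_or_pos n with rfl | hn
  · exact Matrix.det_fin_zero
  haveI : Nonempty (Fin n) := ⟨⟨0, hn⟩⟩
  have h1 : (1 + A) ^ p = 1 := by
    rw [add_pow_char_of_commute p (Commute.one_left A), one_pow,
      show p = 2 + (p - 2) by have := (Fact.out : p.Prime).two_le; omega, pow_add, sq, hA, zero_mul,
      add_zero]
  have h2 : ((1 + A).det - 1) ^ p = 0 := by
    rw [sub_pow_char, one_pow, ← Matrix.det_pow, h1, Matrix.det_one, sub_self]
  exact sub_eq_zero.1 (eq_zero_of_pow_eq_zero h2)

/-- Transvections over `L`. -/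
theorem exists_root {a : V} (ha : hh hS a a = 0) {lam : L} (hl : σ lam = -lam) :
    ∃ g : G, (∀ x, app g x = x + (lam * hh hS x a) • a) ∧ ∀ (k : L) x, app g (k • x) = k • app g x := by
  let N : V →ₗ[F] V := (line a).comp ((LinearMap.mulLeft F lam).comp (zeta hS (line a)))
  have hN : ∀ x, N x = (lam * hh hS x a) • a := fun x => rfl
  have hN2 : ∀ x, N (N x) = 0 := fun x => by
    rw [hN, hN, hh_smul_left, ha, mul_zero, mul_zero, zero_smul]
  have hiso : ∀ x y, H ((LinearMap.id + N : V →ₗ[F] V) x) ((LinearMap.id + N : V →ₗ[F] V) y) = H x y := by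
    intro x y
    rw [LinearMap.add_apply, LinearMap.add_apply, LinearMap.id_apply, LinearMap.id_apply, hN, hN,
      ← t_hh hS, ← t_hh hS x y]
    congr 1
    simp only [hh_add_left, hh_add_right, hh_smul_left, hh_smul_right, ha, map_mul, hl,
      ← hh_swap hS y a]
    ring
  obtain ⟨g, hg⟩ := exists_of_lin (K := K) _ hiso (det_one_add (K := K) hN2)
  refine ⟨g, fun x => by rw [hg, LinearMap.add_apply, LinearMap.id_apply, hN], fun k x => ?_⟩
  rw [hg, hg, LinearMap.add_apply, LinearMap.add_apply, LinearMap.id_apply, LinearMap.id_apply, hN, hN,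
    hh_smul_left, smul_add, smul_smul, mul_left_comm]

/-- Diagonal elements of norm one. -/
theorem exists_delta (h2r : n = 2 * finrank F L) {a d : V} (ha : hh hS a a = 0) (hd : hh hS d d = 0) (h : hh hS a d = 1) {k : L}
    (hk : Algebra.norm F k = 1) :
    ∃ g : G, app g a = k • a ∧ app g d = (σ k)⁻¹ • d ∧ ∀ (j : L) x, app g (j • x) = j • app g x := by
  have h' : hh hS d a = 1 := by rw [hh_swap hS a d, h, map_one]
  have hk0 : k ≠ 0 := fun e => one_ne_zero (α := F) (by rw [← hk, e, Algebra.norm_zero])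
  have hσk0 : σ k ≠ 0 := (map_ne_zero σ).2 hk0
  let T : V →ₗ[F] V := (line (k • a)).comp (zeta hS (line d)) + (line ((σ k)⁻¹ • d)).comp (zeta hS (line a))
  have hT : ∀ x, T x = (hh hS x d) • k • a + (hh hS x a) • (σ k)⁻¹ • d := fun x => rfl
  have hiso : ∀ x y, H (T x) (T y) = H x y := fun x y => by
    rw [← t_hh hS, ← t_hh hS x y]
    congr 1
    conv_rhs => rw [decomp hS h2r ha hd h x, decomp hS h2r ha hd h y]
    rw [hT, hT]
    simp only [hh_add_left, hh_add_right, hh_smul_left, hh_smul_right, ha, hd, h, h', map_inv₀, hS.inv]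
    field_simp
    ring
  have hdet : LinearMap.det T = 1 := by
    have hbij : Function.Bijective ((line a).coprod (line d) : L × L →ₗ[F] V) := by
      refine ⟨fun u v huv => ?_, fun x => ⟨(hh hS x d, hh hS x a), (decomp hS h2r ha hd h x).symm⟩⟩
      have e1 := congrArg (fun z => hh hS z d) huv
      have e2 := congrArg (fun z => hh hS z a) huv
      simp only [LinearMap.coprod_apply, line_apply, hh_add_left, hh_smul_left, ha, hd, h, h',
        mul_zero, mul_one, add_zero, zero_add] at e1 e2
      exact Prod.ext e1 e2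
    let e := LinearEquiv.ofBijective ((line a).coprod (line d) : L × L →ₗ[F] V) hbij
    have hTe : T = e.toLinearMap ∘ₗ (LinearMap.prodMap (Algebra.lmul F L k) (Algebra.lmul F L (σ k)⁻¹)) ∘ₗ
        e.symm.toLinearMap := by
      refine LinearMap.ext fun x => ?_
      obtain ⟨⟨u, v⟩, rfl⟩ := e.surjective x
      simp only [LinearMap.comp_apply, LinearEquiv.coe_coe, LinearEquiv.symm_apply_apply]
      rw [hT]
      show hh hS (u • a + v • d) d • k • a + hh hS (u • a + v • d) a • (σ k)⁻¹ • d =
        (k * u) • a + ((σ k)⁻¹ * v) • d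
      simp only [hh_add_left, hh_smul_left, ha, hd, h, h', mul_zero, mul_one, add_zero, zero_add,
        smul_smul, mul_comm k u, mul_comm (σ k)⁻¹ v]
    rw [hTe, LinearMap.det_conj, LinearMap.det_prodMap, ← Algebra.norm_apply, ← Algebra.norm_apply,
      hk, one_mul]
    have := Algebra.norm_eq_of_equiv_equiv (A₁ := F) (B₁ := L) (A₂ := F) (B₂ := L) K.bar σ
      (RingHom.ext fun c => (hS.semi c).symm) k
    rw [hk] at this
    have h2 := congrArg K.bar this
    rw [map_one, RingEquiv.apply_symm_apply] at h2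
    have h3 := map_mul (Algebra.norm F) (σ k) (σ k)⁻¹
    rw [mul_inv_cancel₀ hσk0, map_one, ← h2, one_mul] at h3
    exact h3.symm
  obtain ⟨g, hg⟩ := exists_of_lin (K := K) T hiso hdet
  refine ⟨g, ?_, ?_, fun j x => ?_⟩
  · rw [hg, hT, h, ha, one_smul, zero_smul, add_zero]
  · rw [hg, hT, hd, h', one_smul, zero_smul, zero_add]
  · rw [hg, hg, hT, hT, hh_smul_left, hh_smul_left, smul_add, smul_smul j, smul_smul j]

omit hS in
/-- An element of `V →ₗ V` fixing the field structure normalises it. -/
def IsLin (g : G) : Prop := ∀ (k : L) x, app g (k • x) = k • app g x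

end CfsgLib.UnitExt
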