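import Cfsg.Agent.Lib.Classical.UnitExtField.Centre
import Cfsg.Agent.Lib.Classical.UnitaryDecompMax.Scalars
import Cfsg.Agent.Lib.Classical.UnitaryOrder

/-!
An overgroup moving an isotropic line over the extension is the whole special unitary group.
-/

set_option autoImplicit false
set_option linter.unusedSectionVars false

namespace CfsgLib.UnitExt

open Module Matrix Cfsg
open CfsgLib.ClassicalAut (Unitary.Conj)
open CfsgLib.Classical.Herm

variable {F : Type*} [Field F] [Finite F] {q n : ℕ} {K : Unitary.Conj F q}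

local notation "H" => hermForm n F q
local notation "V" => (Fin n → F)
local notation "G" => SU n F q

/-- All rational centres and an element moving a rational vector off the rational lines give everything. -/
theorem top_of_rat_centres {F₀ : Subfield F} {P : GL (Fin n) F} {ζ : F}
    (hcard : Nat.card F = Nat.card F₀ ^ 2) (hζ0 : ζ ≠ 0) (hζ : ζ + K.bar ζ = 0)
    (hP : Cfsg.Geo.IsFormRationalStructure (hermForm n F q) F₀ ζ P)
    (halt : ∀ a ∈ rat F₀ P, hermForm n F q a a = 0) (hn : 4 ≤ n) {M : Subgroup G}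
    (hC : ∀ v ∈ rat F₀ P, v ∈ centres K M) {g : G} (hg : g ∈ M) {a₀ : V} (ha₀ : a₀ ∈ rat F₀ P)
    (hout : ∀ (c : F), ∀ r ∈ rat F₀ P, app g a₀ ≠ c • r) : M = ⊤ := by
  obtain ⟨θ, hθ, hθb, hdec⟩ := exists_outside K hcard
  -- rational steps inside `M`
  have step : ∀ {a b : V}, a ∈ rat F₀ P → b ∈ rat F₀ P → H a b ≠ 0 →
      ∃ t ∈ M, (∀ x ∈ rat F₀ P, app t x ∈ rat F₀ P) ∧ app t a = b ∧
        ∀ p, H p a = H p b → app t p = p := by
    intro a b ha hb h
    have hs : (ζ * H a b)⁻¹ ∈ F₀ := F₀.inv_mem (alt_val K hcard hζ0 hζ hP ha hb)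
    obtain ⟨t, ht, htR⟩ := alt_exists_T K hcard hζ0 hζ hP halt (sub_mem hb ha) hs
    refine ⟨t, (hC _ (sub_mem hb ha)).2 t _ ht, htR, ?_, fun p hp => ?_⟩
    · rw [ht.2.2, h_sub_right K, halt a ha, sub_zero,
        show (ζ * H a b)⁻¹ * ζ * H a b = 1 by field_simp [hζ0, h], one_smul, add_sub_cancel]
    · rw [ht.2.2, h_sub_right K, hp, sub_self, mul_zero, zero_smul, add_zero]
  have move : ∀ {a b a' b' : V}, a ∈ rat F₀ P → b ∈ rat F₀ P → a' ∈ rat F₀ P → b' ∈ rat F₀ P →
      a ≠ 0 → a' ≠ 0 → H a b = 0 → H a' b' = 0 → (∀ c : F, b ≠ c • a) → (∀ c : F, b' ≠ c • a') →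
      ∃ h ∈ M, app h a = a' ∧ app h b = b' := by
    intro a b a' b' ha hb ha' hb' ha0 ha'0 hab hab' hi hi'
    obtain ⟨z, hz, h1, h2⟩ := alt_ne_both K hcard hζ0 hζ hP halt (S := (rat F₀ P : Set V))
      (fun _ hx _ hy => add_mem hx hy)
      (by by_contra hc; push Not at hc; exact ha0 (alt_nondeg K hcard (fun z hz => hc z hz)))
      (by by_contra hc; push Not at hc; exact ha'0 (alt_nondeg K hcard (fun z hz => hc z hz)))
    obtain ⟨t, htM, ht, hta, -⟩ := step ha hz h1
    obtain ⟨t', htM', ht', htz, -⟩ := step hz ha' (h_ne_zero_symm K h2)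
    have hc0 : app (t' * t) a = a' := by rw [app_mul, hta, htz]
    have hc1 : app (t' * t) b ∈ rat F₀ P := by rw [app_mul]; exact ht' _ (ht _ hb)
    have hc2 : H a' (app (t' * t) b) = 0 := by rw [← hc0, h_app, hab]
    have hc3 : ∀ c : F, app (t' * t) b ≠ c • a' := fun c e => hi c (app_injective (t' * t)
      (by rw [e, app_smul, hc0]))
    obtain ⟨w, hw, h3, h4⟩ := alt_ne_both K hcard hζ0 hζ hP halt
      (S := {z | z ∈ rat F₀ P ∧ H a' z = 0})
      (fun x hx y hy => ⟨add_mem hx.1 hy.1, by rw [h_add_right K, hx.2, hy.2, add_zero]⟩)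
      (let ⟨z, hz, h5, h6⟩ := alt_perp_ne K hcard hζ0 hζ hP halt ha' ha'0 hc3; ⟨z, ⟨hz, h5⟩, h6⟩)
      (let ⟨z, hz, h5, h6⟩ := alt_perp_ne K hcard hζ0 hζ hP halt ha' ha'0 hi'; ⟨z, ⟨hz, h5⟩, h6⟩)
    obtain ⟨s, hsM, hs, hsb, hsa⟩ := step hc1 hw.1 h3
    obtain ⟨s', hsM', hs', hsw, hsa'⟩ := step hw.1 hb' (h_ne_zero_symm K h4)
    refine ⟨s' * s * (t' * t), M.mul_mem (M.mul_mem hsM' hsM) (M.mul_mem htM' htM), ?_, ?_⟩
    · rw [app_mul, app_mul, hc0, hsa a' (hc2.trans hw.2.symm), hsa' a' (hw.2.trans hab'.symm)]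
    · rw [app_mul, app_mul, hsb, hsw]
  have hu : app g a₀ ∈ centres K M := app_mem_centres K hg (hC a₀ ha₀)
  obtain ⟨a', ha', b', hb', hab⟩ := rat_parts (P := P) hdec (app g a₀)
  rw [hab] at hu hout
  have hperp : ∀ a ∈ rat F₀ P, ∀ b ∈ rat F₀ P, H (a + θ • b) (a + θ • b) = 0 → H a b = 0 := by
    intro a ha b hb h
    rw [h_add_left K, h_add_right K, h_add_right K, h_smul_left K, h_smul_left K, h_smul_right K,
      h_smul_right K, halt a ha, halt b hb, alt_swap K hcard hζ0 hζ hP halt ha hb] at h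
    have h' : (K.bar θ - θ) * H a b = 0 := by linear_combination h
    exact (mul_eq_zero.1 h').resolve_left (sub_ne_zero.2 hθb)
  have ha'0 : a' ≠ 0 := fun e => hout θ b' hb' (by rw [e, zero_add])
  have hi' : ∀ c : F, b' ≠ c • a' := fun c e => hout (1 + θ * c) a' ha' (by
    rw [e, add_smul, one_smul, mul_smul])
  refine eq_top_of_centres K hn fun v hv => ?_
  obtain ⟨a, ha, b, hb, rfl⟩ := rat_parts (P := P) hdec v
  by_cases ha0 : a = 0
  · rw [ha0, zero_add]; exact smul_mem_centres K θ (hC b hb)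
  by_cases hi : ∀ c : F, b ≠ c • a
  · obtain ⟨h, hhM, h1, h2⟩ := move ha' hb' ha hb ha'0 ha0
      (hperp a' ha' b' hb' hu.1) (hperp a ha b hb hv) hi' hi
    rw [show a + θ • b = app h (a' + θ • b') by rw [app_add, app_smul, h1, h2]]
    exact app_mem_centres K hhM hu
  · push Not at hi
    obtain ⟨c, rfl⟩ := hi
    rw [show a + θ • c • a = (1 + θ * c) • a by rw [add_smul, one_smul, mul_smul]]
    exact smul_mem_centres K _ (hC a ha)

variable {L : Type*} [Field L] [Finite L] [Algebra F L] [Module L (Fin n → F)]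
  [IsScalarTower F L (Fin n → F)]
variable {σ : L ≃+* L} {t : L →ₗ[F] F} {R : (L →ₗ[F] F) →ₗ[F] L}
variable (hS : Setup K σ t R n)
include hS

variable {M : Subgroup (SU n F q)} (hM : Over L M)
include hM

/-- A centre gives everything. -/
theorem top_of_centre (h2r : n = 2 * finrank F L) (hqr : ¬ q ^ finrank F L + 1 ∣ (q ^ 2 - 1) ^ 2) {a : V} (ha0 : a ≠ 0)
    (ha : hh hS a a = 0) (hC : a ∈ centres K M) : M = ⊤ := by
  classical
  obtain ⟨d, hd, had, hda⟩ := exists_partner hS ha0 ha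
  -- linear steps
  have step : ∀ {x z : V}, x ∈ centres K M → hh hS x x = 0 → hh hS z z = 0 → hh hS x z ≠ 0 →
      σ (hh hS x z) = -hh hS x z → z ∈ centres K M := by
    intro x z hx hxx hzz hne hsk
    have hzx : hh hS z x = -hh hS x z := by rw [hh_swap hS x z, hsk]
    have hu : hh hS (z - x) (z - x) = 0 := by
      rw [hh_sub_left, hh_sub_right, hh_sub_right, hxx, hzz, hzx]; ring
    obtain ⟨g, hg, hgl⟩ := exists_root hS hu (lam := (hh hS x z)⁻¹) (by rw [map_inv₀, hsk, inv_neg])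
    have e : app g x = z := by
      rw [hg, hh_sub_right, hxx, sub_zero, inv_mul_cancel₀ hne, one_smul, add_sub_cancel]
    exact e ▸ app_mem_centres K (hM g hgl) hx
  obtain ⟨θ, hθ0, hθ⟩ := exists_skew K
  set Θ := algebraMap F L θ
  have hΘ : σ Θ = -Θ := by
    show σ (algebraMap F L θ) = -algebraMap F L θ
    rw [hS.semi, eq_neg_of_add_eq_zero_right hθ, map_neg]
  have hΘ0 : Θ ≠ 0 := (map_ne_zero _).2 hθ0
  have hiso : ∀ s s' : L, σ s = s → σ s' = s' →
      hh hS (s • a + (s' * Θ) • d) (s • a + (s' * Θ) • d) = 0 := fun s s' hs hs' => by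
    simp only [hh_add_left, hh_add_right, hh_smul_left, hh_smul_right, ha, hd, had, hda, map_mul, hs,
      hs', hΘ]
    ring
  have hR1 : ∀ s s' : L, σ s = s → σ s' = s' → s' ≠ 0 → s • a + (s' * Θ) • d ∈ centres K M := by
    intro s s' hs hs' h0
    have e : hh hS a (s • a + (s' * Θ) • d) = -(s' * Θ) := by
      simp only [hh_add_right, hh_smul_right, ha, had, map_mul, hs', hΘ]
      ring
    refine step hC ha (hiso s s' hs hs') ?_ ?_
    · rw [e]; exact neg_ne_zero.2 (mul_ne_zero h0 hΘ0)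
    · rw [e]; simp only [map_neg, map_mul, hs', hΘ]; ring
  have hR : ∀ s s' : L, σ s = s → σ s' = s' → s • a + (s' * Θ) • d ∈ centres K M := by
    intro s s' hs hs'
    by_cases h0 : s' = 0
    · subst h0
      rw [zero_mul, zero_smul, add_zero]
      by_cases hs0 : s = 0
      · rw [hs0, zero_smul, show (0 : V) = (0 : F) • a from (zero_smul F a).symm]
        exact smul_mem_centres K 0 hC
      have h1 := hR1 0 1 (map_zero σ) (map_one σ) one_ne_zero
      rw [zero_smul, zero_add, one_mul] at h1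
      have e : hh hS (Θ • d) (s • a) = s * Θ := by
        rw [hh_smul_left, hh_smul_right, hs, hda, mul_one, mul_comm]
      refine step h1 (by rw [hh_smul_left, hh_smul_right, hd, mul_zero, mul_zero])
        (by rw [hh_smul_left, hh_smul_right, ha, mul_zero, mul_zero]) ?_ ?_
      · rw [e]; exact mul_ne_zero hs0 hΘ0
      · rw [e]; simp only [map_mul, hs, hΘ]; ring
    · exact hR1 s s' hs hs' h0
  -- the rational structure
  obtain ⟨b, hbsub, hbspan, hbli⟩ := exists_linearIndependent F {x : L | σ x = x}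
  haveI := Fintype.ofFinite b
  have hbc : Fintype.card b = finrank F L := by
    rw [← finrank_span_eq_card hbli, Subtype.range_coe_subtype, Set.setOf_mem_eq, hbspan, span_real hS,
      finrank_top]
  let e : Fin n ≃ b ⊕ b := (Fintype.equivFinOfCardEq (by
    rw [Fintype.card_sum, hbc, h2r, two_mul])).symm
  let w : Fin n → V := fun j => Sum.elim (fun x : b => (x : L) • a) (fun x : b => ((x : L) * Θ) • d) (e j)
  have hwli : LinearIndependent F w := by
    rw [Fintype.linearIndependent_iff]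
    intro c hc
    rw [← Equiv.sum_comp e.symm, Fintype.sum_sum_type] at hc
    simp only [w, Equiv.apply_symm_apply, Sum.elim_inl, Sum.elim_inr, ← smul_assoc] at hc
    rw [← Finset.sum_smul, ← Finset.sum_smul] at hc
    have e1 := congrArg (fun z => hh hS z d) hc
    have e2 := congrArg (fun z => hh hS z a) hc
    simp only [hh_add_left, hh_smul_left, ha, hd, had, hda, mul_zero, mul_one, add_zero, zero_add,
      hh_zero_left] at e1 e2
    have k1 := Fintype.linearIndependent_iff.1 hbli (fun x => c (e.symm (Sum.inl x))) e1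
    have k2 := Fintype.linearIndependent_iff.1 hbli (fun x => c (e.symm (Sum.inr x))) (by
      simp only [← smul_mul_assoc, ← Finset.sum_mul] at e2
      exact (mul_eq_zero.1 e2).resolve_right hΘ0)
    intro j
    obtain ⟨x, rfl⟩ := e.symm.surjective j
    rcases x with x | x
    · exact k1 x
    · exact k2 x
  set A : Matrix (Fin n) (Fin n) F := Matrix.of fun i j => w j i
  have hA : A.det ≠ 0 := by
    refine (Matrix.isUnit_iff_isUnit_det A).1 (Matrix.linearIndependent_cols_iff_isUnit.1 ?_) |>.ne_zero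
    exact hwli
  let P : GL (Fin n) F := Matrix.GeneralLinearGroup.mkOfDetNeZero A hA
  have hcol : ∀ j, col P j = w j := fun j => by
    show (P : Matrix (Fin n) (Fin n) F) *ᵥ Pi.single j 1 = w j
    rw [mulVec_single_one]
    rfl
  set F₀ := RingHom.eqLocusField (K.bar : F →+* F) (RingHom.id F) with hF₀
  have hq : Nat.card F₀ = q := card_fixedField hS
  have hcard : Nat.card F = Nat.card F₀ ^ 2 := by rw [hq, K.card]
  have hrat : ∀ x ∈ rat F₀ P, ∃ s s' : L, σ s = s ∧ σ s' = s' ∧ x = s • a + (s' * Θ) • d := by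
    intro x hx
    rw [eq_sum_col (P := P) x]
    refine Finset.sum_induction _ (fun x => ∃ s s' : L, σ s = s ∧ σ s' = s' ∧ x = s • a + (s' * Θ) • d)
      ?_ ⟨0, 0, map_zero σ, map_zero σ, by rw [zero_mul, zero_smul, zero_smul, add_zero]⟩ fun j _ => ?_
    · rintro _ _ ⟨s, s', h1, h2, rfl⟩ ⟨u, u', h3, h4, rfl⟩
      refine ⟨s + u, s' + u', by rw [map_add, h1, h3], by rw [map_add, h2, h4], ?_⟩
      rw [add_mul, add_smul, add_smul]; abel
    · have hc : K.bar ((((P⁻¹ : GL (Fin n) F) : Matrix (Fin n) (Fin n) F) *ᵥ x) j) =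
          (((P⁻¹ : GL (Fin n) F) : Matrix (Fin n) (Fin n) F) *ᵥ x) j := hx j
      obtain ⟨c, hc'⟩ : ∃ c, c = (((P⁻¹ : GL (Fin n) F) : Matrix (Fin n) (Fin n) F) *ᵥ x) j := ⟨_, rfl⟩
      rw [← hc'] at hc ⊢
      rw [hcol]
      rcases hj : e j with y | y
      · refine ⟨c • (y : L), 0, by rw [sigma_smul hS, hc, (hbsub y.2 : σ (y : L) = y)], map_zero σ, ?_⟩
        simp only [w, hj, Sum.elim_inl, zero_mul, zero_smul, add_zero, smul_assoc]
      · refine ⟨0, c • (y : L), map_zero σ, by rw [sigma_smul hS, hc, (hbsub y.2 : σ (y : L) = y)], ?_⟩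
        simp only [w, hj, Sum.elim_inr, zero_smul, zero_add, smul_mul_assoc, smul_assoc]
  have hC' : ∀ v ∈ rat F₀ P, v ∈ centres K M := fun v hv => by
    obtain ⟨s, s', hs, hs', rfl⟩ := hrat v hv
    exact hR s s' hs hs'
  have hP : Cfsg.Geo.IsFormRationalStructure (hermForm n F q) F₀ θ P := by
    intro u v hu hv
    show K.bar (θ * H _ _) = θ * H _ _
    obtain ⟨s, s', hs, hs', e1⟩ := hrat _ (mulVec_mem_rat (P := P) hu)
    obtain ⟨z, z', hz, hz', e2⟩ := hrat _ (mulVec_mem_rat (P := P) hv)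
    rw [e1, e2, ← t_hh hS, map_mul, ← hS.t_bar]
    have key : hh hS (s • a + (s' * Θ) • d) (z • a + (z' * Θ) • d) =
        Θ * (s' * z - s * z') := by
      simp only [hh_add_left, hh_add_right, hh_smul_left, hh_smul_right, ha, hd, had, hda, map_mul, hz,
        hz', hΘ]
      ring
    rw [key, map_mul σ, map_sub σ, map_mul σ, map_mul σ, hΘ, hs, hs', hz, hz', neg_mul, map_neg,
      eq_neg_of_add_eq_zero_right hθ, neg_mul_neg]
  have hn : 4 ≤ n := by
    have := hS.prime.two_le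
    rw [h2r]; omega
  -- a diagonal element moving a rational vector
  obtain ⟨J, hJ⟩ := exists_conj_sigma hS
  obtain ⟨x, hx, hxo⟩ := CfsgLib.Classical.HermDecompMax.exists_circ_gen J
  obtain ⟨g₀, hg₀0, hg₀⟩ : ∃ g : L, g ≠ 0 ∧ g = x * σ g := by
    have hx0 : x * σ x = 1 := by rw [← hJ]; exact hx
    by_cases h : 1 + x = 0
    · exact ⟨Θ, hΘ0, by rw [hΘ, eq_neg_of_add_eq_zero_right h]; ring⟩
    · refine ⟨1 + x, h, ?_⟩
      rw [map_add σ, map_one]
      linear_combination -hx0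
  set k := g₀ ^ (q ^ 2 - 1) with hk
  have hNk : Algebra.norm F k = 1 := by
    cases nonempty_fintype F
    rw [hk, map_pow, ← K.card, Nat.card_eq_fintype_card]
    exact FiniteField.pow_card_sub_one_eq_one _ fun e => hg₀0 (Algebra.norm_eq_zero_iff.1 e)
  obtain ⟨δ, hδa, -, hδl⟩ := exists_delta hS h2r ha hd had hNk
  obtain ⟨j₀, x₀, hj₀⟩ : ∃ j₀, ∃ x₀ : b, e j₀ = Sum.inl x₀ := by
    have : Nonempty b := by
      rw [← Fintype.card_pos_iff, hbc]; exact hS.prime.pos
    exact ⟨e.symm (Sum.inl (Classical.arbitrary b)), _, e.apply_symm_apply _⟩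
  refine top_of_rat_centres hcard hθ0 hθ hP (fun v hv => (hC' v hv).1) hn hC' (hM δ hδl) (col_mem j₀)
    fun c r hr he => ?_
  obtain ⟨s, s', hs, -, rfl⟩ := hrat r hr
  rw [hcol, show w j₀ = (x₀ : L) • a by simp only [w, hj₀, Sum.elim_inl], hδl, hδa, smul_smul,
    ← algebraMap_smul L c (s • a + (s' * Θ) • d)] at he
  have h1 := congrArg (fun z => hh hS z d) he
  simp only [hh_smul_left, hh_add_left, had, hd, mul_zero, mul_one, add_zero] at h1
  have hx₀ : σ (x₀ : L) = x₀ := hbsub x₀.2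
  have hx₀0 : (x₀ : L) ≠ 0 := hbli.ne_zero x₀
  have hk0 : k ≠ 0 := pow_ne_zero _ hg₀0
  have hcs : algebraMap F L c * s ≠ 0 := h1 ▸ mul_ne_zero hx₀0 hk0
  have hc0 : c ≠ 0 := fun e => hcs (by rw [e, map_zero, zero_mul])
  have h2 := congrArg σ h1
  rw [map_mul σ, map_mul σ, hx₀, hS.semi, hs] at h2
  have hkσ : k = x ^ (q ^ 2 - 1) * σ k := by
    rw [hk, map_pow, ← mul_pow, ← hg₀]
  have h3 : x ^ (q ^ 2 - 1) = algebraMap F L (c / K.bar c) := by
    have hb : algebraMap F L (K.bar c) ≠ 0 := (map_ne_zero _).2 ((map_ne_zero K.bar).2 hc0)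
    rw [map_div₀, eq_div_iff hb]
    refine mul_right_cancel₀ (right_ne_zero_of_mul hcs) ?_
    rw [mul_assoc, ← h2, ← h1, mul_left_comm, ← hkσ]
  refine hqr (hxo ▸ orderOf_dvd_of_pow_eq_one ?_)
  rw [sq (q ^ 2 - 1), pow_mul, h3, ← map_pow]
  cases nonempty_fintype F
  rw [← K.card, Nat.card_eq_fintype_card,
    FiniteField.pow_card_sub_one_eq_one _ (div_ne_zero hc0 ((map_ne_zero K.bar).2 hc0)), map_one]

/-- An overgroup moving an isotropic line over the extension is everything. -/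
theorem eq_top (h2r : n = 2 * finrank F L) (hqr : ¬ q ^ finrank F L + 1 ∣ (q ^ 2 - 1) ^ 2) (hr : q = 2 → 5 ≤ finrank F L)
    {g : G} (hg : g ∈ M) {a : V} (ha : hh hS a a = 0) {μ₀ : L}
    (hmove : ∀ k : L, app g (μ₀ • a) ≠ k • app g a) : M = ⊤ := by
  obtain ⟨φ, ψ, hφ, hψ, h1⟩ := exists_pair hS hM h2r hg ha hmove
  rcases Nat.lt_or_ge q 3 with hq | hq
  · have hq2 : q = 2 := by have := K.two_le; omega
    obtain ⟨c, hc0, hcc, hC⟩ := exists_centre_two hS hM h2r hφ hψ h1 hq2 (hr hq2)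
    exact top_of_centre hS hM h2r hqr hc0 hcc hC
  · obtain ⟨c, hc0, hcc, hC⟩ := exists_centre_big hS hM hφ hψ h1 hq
    exact top_of_centre hS hM h2r hqr hc0 hcc hC

end CfsgLib.UnitExt
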