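import Cfsg.Agent.Lib.Classical.UnitExtField.Centre
import Cfsg.Agent.Lib.Classical.UnitaryElation
import Cfsg.Agent.Lib.Classical.TensorUnitary.Gen

/-!
Four or more dimensions over the extension: an overgroup moving an isotropic line is everything.
-/

set_option autoImplicit false
set_option linter.unusedSectionVars false

namespace CfsgLib.UnitExt

open Module Matrix Cfsg
open CfsgLib.ClassicalAut (Unitary.Conj)
open CfsgLib.Classical.Herm
open CfsgLib.Classical.TensorUnitary (line_pars step_pars)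
open CfsgLib.Classical.Elation

variable {F : Type*} [Field F] [Finite F] {q n : ℕ} {K : Unitary.Conj F q}
variable {L : Type*} [Field L] [Finite L] [Algebra F L] [Module L (Fin n → F)]
  [IsScalarTower F L (Fin n → F)]
variable {σ : L ≃+* L} {t : L →ₗ[F] F} {R : (L →ₗ[F] F) →ₗ[F] L}

local notation "H" => hermForm n F q
local notation "V" => (Fin n → F)
local notation "G" => SU n F q

variable {M : Subgroup (SU n F q)}
variable (hS : Setup K σ t R n)
include hS

theorem t_surj (s : F) : ∃ z : L, t z = s := by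
  obtain ⟨z, hz⟩ := LinearMap.surjective_of_ne_zero hS.t_ne s
  exact ⟨z, hz⟩

theorem exists_w : ∃ w : L, w + σ w = 1 := by
  obtain ⟨τ, hτ⟩ := K.exists_trace
  refine ⟨algebraMap F L (τ / (τ + K.bar τ)), ?_⟩
  rw [hS.semi, ← map_add, map_div₀ K.bar, map_add K.bar, K.bar_bar, add_comm (K.bar τ) τ, ← add_div, div_self hτ,
    map_one]

theorem hh_neg_left (x y : V) : hh hS (-x) y = -hh hS x y := by
  rw [← neg_one_smul L x, hh_smul_left, neg_one_mul]

/-- A vector meeting an isotropic one becomes isotropic on their line. -/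
theorem exists_iso_shift {a : V} (ha : hh hS a a = 0) {x : V} (hx : hh hS x a ≠ 0) :
    ∃ κ : L, hh hS (x + κ • a) (x + κ • a) = 0 := by
  obtain ⟨w, hw⟩ := exists_w hS
  have h' : σ (hh hS x a) ≠ 0 := (map_ne_zero σ).2 hx
  refine ⟨-(w * hh hS x x / σ (hh hS x a)), ?_⟩
  simp only [hh_add_left, hh_add_right, hh_smul_left, hh_smul_right, ha, map_neg, map_mul, map_div₀,
    hS.inv, hh_self hS, hh_swap hS x a]
  field_simp
  linear_combination -(hh hS x x * σ (hh hS x a) * hh hS x a) * hw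

/-- An anisotropic combination of two vectors which are not orthogonal. -/
theorem exists_aniso {v v' : V} (hv : hh hS v v = 0) (h : hh hS v v' ≠ 0) :
    hh hS v' v' = 0 → ∃ μ : L, hh hS (μ • v + v') (μ • v + v') ≠ 0 := by
  intro hv'
  obtain ⟨w, hw⟩ := exists_w hS
  refine ⟨w / hh hS v v', ?_⟩
  have e : hh hS ((w / hh hS v v') • v + v') ((w / hh hS v v') • v + v') = 1 := by
    simp only [hh_add_left, hh_add_right, hh_smul_left, hh_smul_right, hv, hv', mul_zero, add_zero,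
      zero_add, map_div₀, hh_swap hS v v']
    have h' : σ (hh hS v v') ≠ 0 := (map_ne_zero σ).2 h
    field_simp
    linear_combination hw
  rw [e]; exact one_ne_zero

omit hS in
theorem finrank_le_two (φ : V →ₗ[F] L × L) : n ≤ finrank F (LinearMap.ker φ) + (finrank F L + finrank F L) := by
  have h1 := LinearMap.finrank_range_add_finrank_ker φ
  have h2 := Submodule.finrank_le (LinearMap.range φ)
  rw [Module.finrank_prod] at h2
  rw [Module.finrank_fin_fun] at h1
  omega

/-- A vector orthogonal to two others and off a line. -/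
theorem exists_off (hwide : 4 * finrank F L ≤ n) (a b c : V) :
    ∃ v : V, hh hS v a = 0 ∧ hh hS v b = 0 ∧ ∀ k : L, v ≠ k • c := by
  set φ := LinearMap.prod (zeta hS (line (L := L) a)) (zeta hS (line (L := L) b)) with hφ
  by_contra hne
  push Not at hne
  have hle : LinearMap.ker φ ≤ LinearMap.range (line (L := L) c) := fun v hv => by
    replace hv : hh hS v a = 0 ∧ hh hS v b = 0 := Prod.mk_eq_zero.1 (LinearMap.mem_ker.1 hv)
    obtain ⟨k, hk⟩ := hne v hv.1 hv.2
    exact ⟨k, hk.symm⟩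
  have h1 := finrank_le_two (L := L) φ
  have h2 := (Submodule.finrank_mono hle).trans (LinearMap.finrank_range_le _)
  have := hS.prime.two_le
  omega

/-- An isotropic vector separating a vector from a line. -/
theorem iso_sep (hwide : 4 * finrank F L ≤ n) {w : V} (hw : w ≠ 0) {y : V} (hy : ∀ k : L, y ≠ k • w) :
    ∃ c : V, hh hS c c = 0 ∧ hh hS c w = 0 ∧ hh hS c y ≠ 0 := by
  obtain ⟨x₀, hx₀⟩ : ∃ x, hh hS x w ≠ 0 := by
    by_contra h
    push Not at h
    exact hw (hh_nondeg hS fun z => hh_zero_symm hS (h z))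
  obtain ⟨p, hp⟩ : ∃ p, hh hS p w = 1 :=
    ⟨(hh hS x₀ w)⁻¹ • x₀, by rw [hh_smul_left, inv_mul_cancel₀ hx₀]⟩
  obtain ⟨z, hzw, hzy⟩ : ∃ z, hh hS z w = 0 ∧ hh hS z y ≠ 0 := by
    by_contra h
    push Not at h
    refine hy (σ (hh hS p y)) (sub_eq_zero.1 (hh_nondeg hS fun z => ?_))
    have h1 := h (z - hh hS z w • p) (by rw [hh_sub_left, hh_smul_left, hp, mul_one, sub_self])
    rw [hh_sub_left, hh_smul_left, sub_eq_zero] at h1
    rw [hh_sub_left, hh_smul_left, hh_swap hS z y, hh_swap hS z w, h1, map_mul σ, sub_eq_zero, mul_comm]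
  by_cases hzz : hh hS z z = 0
  · exact ⟨z, hzz, hzw, hzy⟩
  obtain ⟨p', hp'w, hp'z⟩ : ∃ p', hh hS p' w = 1 ∧ hh hS p' z = 0 :=
    ⟨p - (hh hS p z / hh hS z z) • z, by rw [hh_sub_left, hh_smul_left, hzw, mul_zero, sub_zero, hp],
      by rw [hh_sub_left, hh_smul_left, div_mul_cancel₀ _ hzz, sub_self]⟩
  obtain ⟨v, hvw, hvz, hvo⟩ := exists_off hS hwide w z w
  obtain ⟨v₁, hv₁w, hv₁z, hv₁⟩ : ∃ v₁, hh hS v₁ w = 0 ∧ hh hS v₁ z = 0 ∧ hh hS v₁ v₁ ≠ 0 := by
    by_cases hvv : hh hS v v = 0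
    swap
    · exact ⟨v, hvw, hvz, hvv⟩
    obtain ⟨v', hv'w, hv'z, hv'v⟩ : ∃ v', hh hS v' w = 0 ∧ hh hS v' z = 0 ∧ hh hS v v' ≠ 0 := by
      by_contra h
      push Not at h
      refine hvo (hh hS v p') (sub_eq_zero.1 (hh_nondeg hS fun x => ?_))
      have hzw' : hh hS w z = 0 := hh_zero_symm hS hzw
      have h1 := h (x - hh hS x w • p' - (hh hS x z / hh hS z z) • z)
        (by simp only [hh_sub_left, hh_smul_left, hp'w, hzw, mul_one, mul_zero, sub_zero, sub_self])
        (by simp only [hh_sub_left, hh_smul_left, hp'z, mul_zero, sub_zero, div_mul_cancel₀ _ hzz,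
          sub_self])
      rw [hh_sub_right, hh_sub_right, hh_smul_right, hh_smul_right, hvz, mul_zero, sub_zero,
        sub_eq_zero] at h1
      rw [hh_sub_left, hh_smul_left, h1, hh_swap hS x w, sub_eq_zero, mul_comm]
    by_cases hv'v' : hh hS v' v' = 0
    · obtain ⟨μ, hμ⟩ := exists_aniso hS hvv hv'v hv'v'
      exact ⟨μ • v + v', by rw [hh_add_left, hh_smul_left, hvw, hv'w, mul_zero, add_zero],
        by rw [hh_add_left, hh_smul_left, hvz, hv'z, mul_zero, add_zero], hμ⟩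
    · exact ⟨v', hv'w, hv'z, hv'v'⟩
  obtain ⟨J, hJ⟩ := exists_conj_sigma hS
  obtain ⟨s, hs⟩ := J.exists_norm (-hh hS z z / hh hS v₁ v₁)
    (by rw [hJ, map_div₀, map_neg, hh_self hS, hh_self hS])
  rw [hJ] at hs
  have hs0 : s ≠ 0 := fun e => by
    rw [e, zero_mul, eq_comm, neg_div, neg_eq_zero, div_eq_zero_iff] at hs
    exact hs.elim hzz hv₁
  obtain ⟨ζ, hζn, hζ1⟩ : ∃ ζ : L, ζ * σ ζ = 1 ∧ ζ ≠ 1 := by
    have : Nontrivial {a : L // a * J.bar a = 1} :=
      (Finite.one_lt_card_iff_nontrivial).1 (by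
        rw [card_norm_one J]; have := J.two_le; omega)
    obtain ⟨⟨ζ, hζ⟩, hne⟩ := exists_ne (⟨1, by rw [map_one, mul_one]⟩ : {a : L // a * J.bar a = 1})
    exact ⟨ζ, by rw [← hJ]; exact hζ, fun e => hne (Subtype.ext e)⟩
  have hiso : ∀ s : L, s * σ s = -hh hS z z / hh hS v₁ v₁ → hh hS (z + s • v₁) (z + s • v₁) = 0 :=
    fun s hs => by
      simp only [hh_add_left, hh_add_right, hh_smul_left, hh_smul_right, hv₁z, hh_zero_symm hS hv₁z,
        mul_zero, add_zero, zero_add]
      rw [show σ s * (s * hh hS v₁ v₁) = s * σ s * hh hS v₁ v₁ by ring, hs, div_mul_cancel₀ _ hv₁,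
        add_neg_cancel]
  have hperp : ∀ s : L, hh hS (z + s • v₁) w = 0 := fun s => by
    rw [hh_add_left, hh_smul_left, hzw, hv₁w, mul_zero, add_zero]
  by_cases h1 : hh hS (z + s • v₁) y = 0
  · refine ⟨z + (ζ * s) • v₁, hiso _ ?_, hperp _, fun h2 => ?_⟩
    · rw [map_mul σ, show ζ * s * (σ ζ * σ s) = ζ * σ ζ * (s * σ s) by ring, hζn, one_mul, hs]
    rw [hh_add_left, hh_smul_left] at h1 h2
    have h3 : (ζ - 1) * (s * hh hS v₁ y) = 0 := by linear_combination h2 - h1
    rcases mul_eq_zero.1 h3 with h4 | h4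
    · exact hζ1 (sub_eq_zero.1 h4)
    · rw [h4, add_zero] at h1; exact hzy h1
  · exact ⟨z + s • v₁, hiso _ hs, hperp _, h1⟩

/-- A moved isotropic line gives a pairing of rank one. -/
theorem exists_pair_wide (hM : Over L M) (hwide : 4 * finrank F L ≤ n) {g : G} (hg : g ∈ M) {a : V}
    (ha : hh hS a a = 0) {μ₀ : L} (hmove : ∀ k : L, app g (μ₀ • a) ≠ k • app g a) :
    ∃ φ ψ : L →ₗ[F] V, Im hS M φ ∧ Im hS M ψ ∧
      finrank F (LinearMap.range (zeta hS φ ∘ₗ ψ)) = 1 := by
  have ha0 : a ≠ 0 := fun e => hmove 0 (by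
    rw [e, smul_zero, zero_smul]; exact mulVec_zero _)
  set φ : L →ₗ[F] V := (lin g).comp (line a) with hφd
  have hφ : Im hS M φ := (im_line hS ha0 ha).comp hS hg
  have hga : app g a ≠ 0 := fun e => ha0 (app_injective g (e.trans (mulVec_zero _).symm))
  obtain ⟨c, hcc, hcw, hcy⟩ := iso_sep hS hwide hga (y := app g (μ₀ • a)) hmove
  have hc0 : c ≠ 0 := fun e => hcy (by rw [e, hh_zero_left])
  have hz : ∀ μ, (zeta hS (line c) ∘ₗ φ) μ = hh hS (app g (μ • a)) c := fun μ => rfl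
  refine exists_rank_one hS hM (im_line hS hc0 hcc) hφ (fun e => hcy ?_) ?_
  · refine hh_zero_symm hS ?_
    rw [← hz, e, LinearMap.zero_apply]
  · have b1 := LinearMap.finrank_range_add_finrank_ker (zeta hS (line c) ∘ₗ φ)
    have b2 : 1 ≤ finrank F (LinearMap.ker (zeta hS (line c) ∘ₗ φ)) :=
      Submodule.one_le_finrank_iff.2 fun e => one_ne_zero (α := L) ((Submodule.eq_bot_iff _).1 e 1 (by
        rw [LinearMap.mem_ker, hz, one_smul]; exact hh_zero_symm hS hcw))
    omega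

/-- Eichler elements linear over the extension. -/
theorem exists_eichler {a w : V} (ha : hh hS a a = 0) (hw : hh hS w w = 0) (hwa : hh hS w a = 0) :
    ∃ g : G, (∀ x, app g x = x + hh hS x a • w - hh hS x w • a) ∧ IsLin (L := L) g := by
  let N : V →ₗ[F] V := (line (L := L) w).comp (zeta hS (line a)) - (line (L := L) a).comp (zeta hS (line w))
  have hN : ∀ x, N x = hh hS x a • w - hh hS x w • a := fun x => rfl
  have haw := hh_zero_symm hS hwa
  have hN2 : ∀ x, N (N x) = 0 := fun x => by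
    rw [hN, hN]
    simp only [hh_sub_left, hh_smul_left, ha, hw, hwa, haw, mul_zero, sub_zero, zero_smul]
  have hiso : ∀ x y, H ((LinearMap.id + N : V →ₗ[F] V) x) ((LinearMap.id + N : V →ₗ[F] V) y) = H x y := by
    intro x y
    rw [LinearMap.add_apply, LinearMap.add_apply, LinearMap.id_apply, LinearMap.id_apply, hN, hN,
      ← t_hh hS, ← t_hh hS x y]
    congr 1
    simp only [hh_add_left, hh_add_right, hh_sub_left, hh_sub_right, hh_smul_left, hh_smul_right, ha, hw,
      hwa, haw, ← hh_swap hS y a, ← hh_swap hS y w]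
    ring
  obtain ⟨g, hg⟩ := exists_of_lin (K := K) _ hiso (det_one_add (K := K) hN2)
  refine ⟨g, fun x => by rw [hg, LinearMap.add_apply, LinearMap.id_apply, hN, add_sub_assoc], fun k x => ?_⟩
  rw [hg, hg, LinearMap.add_apply, LinearMap.add_apply, LinearMap.id_apply, LinearMap.id_apply, hN, hN,
    hh_smul_left, hh_smul_left, smul_add, smul_sub, smul_smul, smul_smul]

/-- All transvections with some isotropic centre. -/
theorem exists_centre_wide (hM : Over L M) (hwide : 4 * finrank F L ≤ n) {φ ψ : L →ₗ[F] V} (hφ : Im hS M φ)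
    (hψ : Im hS M ψ) (h1 : finrank F (LinearMap.range (zeta hS φ ∘ₗ ψ)) = 1) :
    ∃ a : V, a ≠ 0 ∧ hh hS a a = 0 ∧ a ∈ centres K M := by
  obtain ⟨a₀, ha₀0, ha₀, z₀, hz₀, e, he, B, p, hpe, hpb, hBB, hBa, hfam⟩ := exists_family hS hM hφ hψ h1
  have hn₀ : σ (z₀ * σ z₀) = z₀ * σ z₀ := by rw [map_mul σ, hS.inv, mul_comm]
  obtain ⟨u, hu0, hu, hun, -⟩ := exists_real_ker hS hn₀ hn₀
  obtain ⟨θ, hθ0, hθ⟩ := exists_skew K
  obtain ⟨hab, hfam₁⟩ := hfam u hu hun
  obtain ⟨g₁, hg₁, hSi⟩ := hfam₁ θ hθ e he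
  set κ := algebraMap F L θ * (u * z₀) with hκ
  have hκ0 : κ ≠ 0 := mul_ne_zero ((map_ne_zero _).2 hθ0) (mul_ne_zero hu0 hz₀)
  have eκ : θ • ((u * z₀) • a₀) = κ • a₀ := by rw [hκ, ← smul_assoc, Algebra.smul_def]
  rw [eκ] at hSi
  set a := κ • a₀ with haκ
  have hah : hh hS a a = 0 := by rw [haκ, hh_smul_left, hh_smul_right, ha₀, mul_zero, mul_zero]
  have haa : H a a = 0 := by rw [← t_hh hS, hah, map_zero]
  set b := θ • B e with hb
  have hba : H b a = 0 := by
    rw [hb, ← eκ, h_smul_left K, h_smul_right K, h_eq_zero_symm K (hab e), mul_zero, mul_zero]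
  have hbp : b ∈ pars K M haa := by
    refine ⟨g₁, hg₁, θ * p e, haa, hba, ?_, hSi⟩
    rw [hb, h_smul_left K, h_smul_right K, hBB, map_mul, hpb e he]
    linear_combination (p e) * hθ
  obtain ⟨ν, hν⟩ : ∃ ν, ν = hh hS b a₀ := ⟨_, rfl⟩
  have hν0 : ν ≠ 0 := by
    rw [hν, hb, ← algebraMap_smul L θ (B e), hh_smul_left, hBa, Algebra.smul_def]
    exact mul_ne_zero ((map_ne_zero _).2 hθ0) (mul_ne_zero ((map_ne_zero _).2 hpe) hz₀)
  have hdel : ∀ w, hh hS w w = 0 → hh hS w a₀ = 0 → ν • w - hh hS b w • a₀ ∈ pars K M haa := by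
    intro w hw hwa
    obtain ⟨E, hE, hEl⟩ := exists_eichler hS ha₀ hw hwa
    have hEa : app E a = a := by
      rw [haκ, hEl, hE, ha₀, hh_zero_symm hS hwa, zero_smul, zero_smul, add_zero, sub_zero]
    have := (pars K M haa).sub_mem (pars_stab K haa (hM E hEl) hEa hbp) hbp
    rwa [hE, ← hν, add_sub_assoc, add_sub_cancel_left] at this
  obtain ⟨d, -, had, hda⟩ := exists_partner hS ha₀0 ha₀
  obtain ⟨v, hva, -, hv⟩ := exists_off hS hwide a₀ a₀ a₀
  obtain ⟨w₁, hw₁, hw₁a, hw₁v⟩ := iso_sep hS hwide ha₀0 hv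
  have hw₁o : ∀ k : L, w₁ ≠ k • a₀ := fun k e => hw₁v (by
    rw [e, hh_smul_left, hh_zero_symm hS hva, mul_zero])
  obtain ⟨w₂, hw₂, hw₂a, hw₂1⟩ := iso_sep hS hwide ha₀0 hw₁o
  refine ⟨a, smul_ne_zero hκ0 ha₀0, hah, haa, fun g c hg => ?_⟩
  obtain ⟨s, hs⟩ := CfsgLib.ClassicalAut.Unitary.skewSurj (n := n) K c (by
    show (1 : F) * c + K.bar c = 0
    rw [one_mul]; exact hg.2.1)
  change s - 1 * K.bar s = c at hs
  rw [one_mul] at hs
  obtain ⟨ζ, hζ⟩ := t_surj hS s
  set lam := ζ / (ν * σ ν * hh hS w₂ w₁) with hlam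
  have h2 := hdel (lam • w₂) (by rw [hh_smul_left, hh_smul_right, hw₂, mul_zero, mul_zero])
    (by rw [hh_smul_left, hw₂a, mul_zero])
  obtain ⟨g', hg', h'⟩ := isT_comm K haa h2 (hdel w₁ hw₁ hw₁a)
  have hval : H (ν • lam • w₂ - hh hS b (lam • w₂) • a₀) (ν • w₁ - hh hS b w₁ • a₀) = s := by
    rw [← t_hh hS, ← hζ]
    congr 1
    simp only [hh_sub_left, hh_sub_right, hh_smul_left, hh_smul_right, ha₀, hw₂a,
      hh_zero_symm hS hw₁a, mul_zero, sub_zero]
    rw [hlam]
    have : σ ν ≠ 0 := (map_ne_zero σ).2 hν0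
    field_simp
  rw [h_swap K (ν • lam • w₂ - hh hS b (lam • w₂) • a₀) (ν • w₁ - hh hS b w₁ • a₀), hval, hs] at h'
  have : g = g' := ext_app fun x => by rw [hg.2.2, h'.2.2]
  exact this ▸ hg'

/-- A centre gives everything. -/
theorem top_of_centre_wide (hM : Over L M) (hwide : 4 * finrank F L ≤ n) {a : V} (ha0 : a ≠ 0)
    (ha : hh hS a a = 0) (hC : a ∈ centres K M) : M = ⊤ := by
  have step : ∀ {x z : V}, x ∈ centres K M → hh hS x x = 0 → hh hS z z = 0 → hh hS x z ≠ 0 →
      σ (hh hS x z) = -hh hS x z → z ∈ centres K M := by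
    intro x z hx hxx hzz hne hsk
    have hzx : hh hS z x = -hh hS x z := by rw [hh_swap hS x z, hsk]
    have hu : hh hS (z - x) (z - x) = 0 := by
      rw [hh_sub_left, hh_sub_right, hh_sub_right, hxx, hzz, hzx]; ring
    obtain ⟨g, hg, hgl⟩ := exists_root hS hu (lam := (hh hS x z)⁻¹) (by rw [map_inv₀, hsk, inv_neg])
    have e : app g x = z := by
      rw [hg, hh_sub_right, hxx, sub_zero, inv_mul_cancel₀ hne, one_smul, add_sub_cancel]
    exact e ▸ app_mem_centres K (hM g hgl) hx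
  obtain ⟨θ, hθ0, hθ⟩ := exists_skew K
  obtain ⟨Θ, hΘd⟩ : ∃ Θ, Θ = algebraMap F L θ := ⟨_, rfl⟩
  have hΘ : σ Θ = -Θ := by
    rw [hΘd, hS.semi, eq_neg_of_add_eq_zero_right hθ, map_neg]
  have hΘ0 : Θ ≠ 0 := hΘd ▸ (map_ne_zero _).2 hθ0
  obtain ⟨J, hJ⟩ := exists_conj_sigma hS
  have join : ∀ {x z : V}, x ∈ centres K M → hh hS x x = 0 → hh hS z z = 0 → hh hS x z ≠ 0 →
      z ∈ centres K M := by
    intro x z hx hxx hzz hne
    set c := hh hS x z with hc
    have hzx : hh hS z x = σ c := hh_swap hS x z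
    have hc' : σ c ≠ 0 := (map_ne_zero σ).2 hne
    obtain ⟨v, hvx, hvz, hvo⟩ := exists_off hS hwide x z x
    obtain ⟨v₁, hv₁x, hv₁z, hv₁⟩ : ∃ v₁, hh hS v₁ x = 0 ∧ hh hS v₁ z = 0 ∧ hh hS v₁ v₁ ≠ 0 := by
      by_cases hvv : hh hS v v = 0
      swap
      · exact ⟨v, hvx, hvz, hvv⟩
      obtain ⟨v', hv'x, hv'z, hv'v⟩ : ∃ v', hh hS v' x = 0 ∧ hh hS v' z = 0 ∧ hh hS v v' ≠ 0 := by
        by_contra h
        push Not at h
        refine hvo 0 ?_
        rw [zero_smul]
        refine hh_nondeg hS fun y => ?_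
        have h1 := h (y - (hh hS y z / c) • x - (hh hS y x / σ c) • z)
          (by simp only [hh_sub_left, hh_smul_left, hxx, hzx, mul_zero, sub_zero, div_mul_cancel₀ _ hc',
            sub_self])
          (by simp only [hh_sub_left, hh_smul_left, ← hc, hzz, mul_zero, sub_zero, div_mul_cancel₀ _ hne,
            sub_self])
        rwa [hh_sub_right, hh_sub_right, hh_smul_right, hh_smul_right, hvx, hvz, mul_zero, mul_zero,
          sub_zero, sub_zero] at h1
      by_cases hv'v' : hh hS v' v' = 0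
      · obtain ⟨μ, hμ⟩ := exists_aniso hS hvv hv'v hv'v'
        exact ⟨μ • v + v', by rw [hh_add_left, hh_smul_left, hvx, hv'x, mul_zero, add_zero],
          by rw [hh_add_left, hh_smul_left, hvz, hv'z, mul_zero, add_zero], hμ⟩
      · exact ⟨v', hv'x, hv'z, hv'v'⟩
    obtain ⟨y₀, hy₀⟩ : ∃ y₀, y₀ = (Θ / c) • x + (-Θ / σ c) • z := ⟨_, rfl⟩
    have e1 : hh hS x y₀ = Θ := by
      rw [hy₀, hh_add_right, hh_smul_right, hh_smul_right, hxx, mul_zero, zero_add, map_div₀, map_neg,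
        hΘ, neg_neg, hS.inv, ← hc, div_mul_cancel₀ _ hne]
    have e2 : hh hS y₀ z = Θ := by
      rw [hy₀, hh_add_left, hh_smul_left, hh_smul_left, hzz, mul_zero, add_zero, ← hc,
        div_mul_cancel₀ _ hne]
    obtain ⟨s, hs⟩ := J.exists_norm (-hh hS y₀ y₀ / hh hS v₁ v₁)
      (by rw [hJ, map_div₀, map_neg, hh_self hS, hh_self hS])
    rw [hJ] at hs
    obtain ⟨y, hy⟩ : ∃ y, y = y₀ + s • v₁ := ⟨_, rfl⟩
    have hv₁y : hh hS v₁ y₀ = 0 := by
      rw [hy₀, hh_add_right, hh_smul_right, hh_smul_right, hv₁x, hv₁z, mul_zero, mul_zero, add_zero]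
    have hyy : hh hS y y = 0 := by
      simp only [hy, hh_add_left, hh_add_right, hh_smul_left, hh_smul_right, hv₁y,
        hh_zero_symm hS hv₁y, mul_zero, add_zero, zero_add]
      rw [show σ s * (s * hh hS v₁ v₁) = s * σ s * hh hS v₁ v₁ by ring, hs, div_mul_cancel₀ _ hv₁,
        add_neg_cancel]
    have hxy : hh hS x y = Θ := by
      rw [hy, hh_add_right, hh_smul_right, hh_zero_symm hS hv₁x, mul_zero, add_zero, e1]
    have hyz : hh hS y z = Θ := by
      rw [hy, hh_add_left, hh_smul_left, hv₁z, mul_zero, add_zero, e2]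
    exact step (step hx hxx hyy (hxy.symm ▸ hΘ0) (by rw [hxy, hΘ])) hyy hzz (hyz.symm ▸ hΘ0)
      (by rw [hyz, hΘ])
  have all : ∀ z, hh hS z z = 0 → z ∈ centres K M := by
    intro z hzz
    by_cases hz0 : z = 0
    · subst hz0
      have := smul_mem_centres K (0 : F) hC
      rwa [zero_smul] at this
    by_cases haz : hh hS a z = 0
    swap
    · exact join hC ha hzz haz
    obtain ⟨d, hd, had, hda⟩ := exists_partner hS ha0 ha
    have hdc : d ∈ centres K M := join hC ha hd (by rw [had]; exact one_ne_zero)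
    by_cases hdz : hh hS d z = 0
    swap
    · exact join hdc hd hzz hdz
    obtain ⟨d', hd', hzd', hd'z⟩ := exists_partner hS hz0 hzz
    have hd'c : d' ∈ centres K M → z ∈ centres K M := fun h =>
      join h hd' hzz (by rw [hd'z]; exact one_ne_zero)
    by_cases had' : hh hS a d' = 0
    swap
    · exact hd'c (join hC ha hd' had')
    obtain ⟨κ, hκ⟩ := exists_iso_shift hS ha (x := d + d') (by
      rw [hh_add_left, hda, hh_swap hS a d', had', map_zero, add_zero]; exact one_ne_zero)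
    have hy1 : hh hS a (d + d' + κ • a) = 1 := by
      rw [hh_add_right, hh_add_right, hh_smul_right, ha, had, had', mul_zero, add_zero, add_zero]
    have hy2 : hh hS (d + d' + κ • a) z = 1 := by
      rw [hh_add_left, hh_add_left, hh_smul_left, haz, hdz, hd'z, mul_zero, zero_add, add_zero]
    exact join (join hC ha hκ (by rw [hy1]; exact one_ne_zero)) hκ hzz (by rw [hy2]; exact one_ne_zero)
  -- the parameters at `a`
  have hline : ∀ b, hh hS b b = 0 → hh hS b a = 0 → ∀ δ : F, δ • b ∈ pars K M hC.1 := by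
    intro b hb hba δ
    refine line_pars hC.1 hC (by rw [← t_hh hS, hba, map_zero]) (fun c => all _ ?_) (fun c => all _ ?_) δ
    · rw [← algebraMap_smul L c b, hh_smul_left, hh_smul_right, hb, mul_zero, mul_zero]
    · rw [← algebraMap_smul L c b]
      simp only [hh_add_left, hh_add_right, hh_smul_left, hh_smul_right, ha, hb, hba,
        hh_zero_symm hS hba, mul_zero, add_zero]
  have hiso : ∀ y, hh hS y y = 0 → hh hS y a ≠ 0 → H y a = 0 → y ∈ pars K M hC.1 := by
    intro y hy hya hHya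
    obtain ⟨c, hc, hca, hcy⟩ := iso_sep hS hwide ha0 (y := y) (fun k e => hya (by
      rw [e, hh_smul_left, ha, mul_zero]))
    obtain ⟨ζ, hζ⟩ := t_surj hS 1
    set b := (ζ / hh hS c y) • c with hb
    have hby : H b y = 1 := by
      rw [← t_hh hS, hb, hh_smul_left, div_mul_cancel₀ _ hcy, hζ]
    have := step_pars (K := K) (x := b) (g := y) hC.1
      (hline b (by rw [hb, hh_smul_left, hh_smul_right, hc, mul_zero, mul_zero])
        (by rw [hb, hh_smul_left, hca, mul_zero]))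
      (all y hy) (h_eq_zero_symm K hHya) (by rw [hby]; exact one_ne_zero) 1
    rwa [one_smul] at this
  have hself : ∀ κ : L, κ • a ∈ pars K M hC.1 := fun κ => by
    have := hline (κ • a) (by rw [hh_smul_left, hh_smul_right, ha, mul_zero, mul_zero])
      (by rw [hh_smul_left, ha, mul_zero]) 1
    rwa [one_smul] at this
  have hne : ∀ x, hh hS x a ≠ 0 → H x a = 0 → x ∈ pars K M hC.1 := by
    intro x hxa hHxa
    obtain ⟨κ, hκ⟩ := exists_iso_shift hS ha hxa
    have e : hh hS (x + κ • a) a = hh hS x a := by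
      rw [hh_add_left, hh_smul_left, ha, mul_zero, add_zero]
    have h1 := hiso _ hκ (by rw [e]; exact hxa) (by rw [← t_hh hS, e, t_hh hS, hHxa])
    have := (pars K M hC.1).sub_mem h1 (hself κ)
    rwa [add_sub_cancel_right] at this
  obtain ⟨d, hd, had, hda⟩ := exists_partner hS ha0 ha
  have hall : ∀ x, H x a = 0 → x ∈ pars K M hC.1 := by
    intro x hHxa
    by_cases hxa : hh hS x a = 0
    swap
    · exact hne x hxa hHxa
    obtain ⟨β, hβ0, -, hβ, -⟩ := exists_real_ker hS (map_one σ) (map_one σ)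
    rw [mul_one] at hβ
    have e : hh hS (β • d) a = β := by rw [hh_smul_left, hda, mul_one]
    have h1 := hne (x + β • d) (by rw [hh_add_left, hxa, e, zero_add]; exact hβ0)
      (by rw [← t_hh hS, hh_add_left, hxa, e, zero_add, hβ])
    have h2 := hne (β • d) (by rw [e]; exact hβ0) (by rw [← t_hh hS, e, hβ])
    have := (pars K M hC.1).sub_mem h1 h2
    rwa [add_sub_cancel_right] at this
  -- an element moving `a`
  obtain ⟨ζ, hζ⟩ := t_surj hS 1
  set y := σ ζ • d with hy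
  have hay : H a y = 1 := by rw [hy, ← t_hh hS, hh_smul_right, had, hS.inv, mul_one, hζ]
  have hya : H y a = 1 := by rw [h_swap K a y, hay, map_one]
  have hyy : hh hS y y = 0 := by rw [hy, hh_smul_left, hh_smul_right, hd, mul_zero, mul_zero]
  obtain ⟨T, hT⟩ := exists_T K (v := y) (c := θ) (by rw [← t_hh hS, hyy, map_zero]) hθ
  have := hS.prime.two_le
  refine eq_top_of_elations K hC.1 (by omega) (fun h => by omega) hC.2 hall
    ((all y hyy).2 T θ hT) ?_
  rw [hT.2.2, h_add_left K, h_smul_left K, hC.1, hay, hya, zero_add, mul_one, mul_one]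
  exact hθ0

/-- An overgroup moving an isotropic line over the extension is everything. -/
theorem eq_top_wide (hM : Over L M) (hwide : 4 * finrank F L ≤ n) {g : G} (hg : g ∈ M) {a : V}
    (ha : hh hS a a = 0) {μ₀ : L} (hmove : ∀ k : L, app g (μ₀ • a) ≠ k • app g a) : M = ⊤ := by
  obtain ⟨φ, ψ, hφ, hψ, h1⟩ := exists_pair_wide hS hM hwide hg ha hmove
  obtain ⟨c, hc0, hcc, hC⟩ := exists_centre_wide hS hM hwide hφ hψ h1
  exact top_of_centre_wide hS hM hwide hc0 hcc hC

end CfsgLib.UnitExt
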